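import Cfsg.Agent.H506.NRowDef
import Cfsg.Agent.H400.LieLocal
import Cfsg.Agent.H225.AxB
import Cfsg.Agent.H334.Star.Own
import Cfsg.Agent.H818.StrP.Row_m3
import Cfsg.Agent.H818.StrP.Own
import Cfsg.Agent.H979.LieSplit
import Cfsg.Agent.H580.LieBad_m3
import Cfsg.Agent.FastGrp
import Cfsg.Agent.Prune
set_option linter.all false
prune_inst 0x7f00000000000000000000000000000000000000000000000000000000000000000000000000000000000000000000000000000000000000000000000000000000000000000000000000000000000000003fffffffffffffffffffffffffffbeffbdffffffff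
open scoped Cfsg.Agent.FastGrp

/-!
# S4307, rows R2 and R5: groups of Lie type of odd characteristic `ρ` (helper858)

* `exists_par` : the `p`-core of the normaliser of a `p`-subgroup, as a subgroup of `T`;
* `notAb_of_lie` : the Sylow `ρ`-subgroups are not abelian, `T` not `PSL₂(F)`;
* `not_nctx_own` : not `NCtx ρ T`;
* `not_nctx'_of_lie` : not `NCtx' q T` for `q ≠ ρ`, `q ∤ ρ - 1`, `T` not `PSL₂(F)`;
* `not_nctx_of_lie` : both.
-/

set_option autoImplicit false
set_option linter.unusedSectionVars false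

namespace Cfsg.Agent.H858.NRowLie

open Subgroup Cfsg
open Cfsg.Agent.H506.NRow
open Cfsg.Agent.BpLieP.Big (LocChar)
open Cfsg.Agent.H818.StrP (NoSP)

variable {p : ℕ} [hp : Fact p.Prime] {T : Type*} [Group T] [Finite T]

/-- The `p`-core of the normaliser of a `p`-subgroup. -/
theorem exists_par (hL : LocChar p T) {K : Subgroup T} (hK : IsPGroup p K) (hK1 : K ≠ ⊥) :
    ∃ V : Subgroup T, IsPGroup p V ∧ K ≤ V ∧ V ≤ normalizer (K : Set T) ∧
      normalizer (K : Set T) ≤ normalizer (V : Set T) ∧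
      ∀ y ∈ normalizer (K : Set T), (∀ v ∈ V, y * v = v * y) → y ∈ V := by
  set N := normalizer (K : Set T) with hN
  have hn : (pCore p N).Normal := Lib.Cores.pCore_normal p
  have hKN : (K.subgroupOf N).Normal := by
    rw [hN]
    exact normal_in_normalizer
  refine ⟨(pCore p N).map N.subtype, (Lib.Cores.pCore_isPGroup p).map _, ?_, ?_, ?_, ?_⟩
  · intro k hk
    have h1 : K.subgroupOf N ≤ pCore p N :=
      Lib.Cores.le_pCore hKN (hK.comap_of_injective N.subtype N.subtype_injective)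
    exact ⟨⟨k, le_normalizer hk⟩, h1 (mem_subgroupOf.2 hk), rfl⟩
  · rintro _ ⟨y, -, rfl⟩
    exact y.2
  · have h1 : ∀ g ∈ N, ∀ v ∈ (pCore p N).map N.subtype, g * v * g⁻¹ ∈ (pCore p N).map N.subtype := by
      rintro g hg _ ⟨v, hv, rfl⟩
      exact ⟨_, hn.conj_mem v hv ⟨g, hg⟩, rfl⟩
    intro g hg
    rw [mem_normalizer_iff]
    intro v
    refine ⟨fun hv => h1 g hg v hv, fun hv => ?_⟩
    have h2 := h1 g⁻¹ (inv_mem hg) _ hv
    have h3 : g⁻¹ * (g * v * g⁻¹) * g⁻¹⁻¹ = v := by group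
    rwa [h3] at h2
  · intro y hy hc
    have h1 : (⟨y, hy⟩ : N) ∈ centralizer (pCore p N : Set N) := by
      rw [mem_centralizer_iff]
      intro v hv
      exact Subtype.ext (hc v ⟨v, hv, rfl⟩).symm
    exact ⟨⟨y, hy⟩, hL K hK hK1 h1, rfl⟩

/-- A `p`-subgroup `P` with `C(P)` containing a `p'`-element which is not trivial: impossible for a Sylow subgroup. -/
theorem mem_sylow_of_comm (hL : LocChar p T) (P : Sylow p T) (hP1 : (P : Subgroup T) ≠ ⊥) {x : T}
    (hx : ∀ y ∈ P, y * x = x * y) : x ∈ P := by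
  obtain ⟨V, hV, hPV, -, -, hc⟩ := exists_par hL P.isPGroup' hP1
  have hVP : V = P := P.is_maximal' hV hPV
  rw [hVP] at hc
  refine hc x ?_ fun v hv => (hx v hv).symm
  rw [mem_normalizer_iff]
  intro y
  constructor
  · intro hy
    have h1 : x * y * x⁻¹ = y := by rw [← hx y hy]; group
    rwa [h1]
  · intro hy
    have h1 := hx _ hy
    have h2 : x * y * x⁻¹ = y := by
      have h3 : x * y * x⁻¹ * x = x * y := by group
      rw [h3] at h1
      exact (mul_left_cancel h1).symm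
    rwa [h2] at hy

/-- The Sylow subgroups are TI if they are abelian. -/
theorem isTI_of_comm (hL : LocChar p T) (P₀ : Sylow p T) (hP₀ : IsMulCommutative (P₀ : Subgroup T)) :
    H666.TI.IsTI p T := by
  have hab : ∀ P : Sylow p T, ∀ x ∈ P, ∀ y ∈ P, x * y = y * x := by
    intro P x hx y hy
    obtain ⟨g, hg⟩ := MulAction.exists_smul_eq T P P₀
    have hmem : ∀ z ∈ P, g * z * g⁻¹ ∈ P₀ := by
      intro z hz
      rw [← hg]
      exact ⟨z, hz, rfl⟩
    have h1 := congrArg Subtype.val (hP₀.is_comm.comm ⟨_, hmem x hx⟩ ⟨_, hmem y hy⟩)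
    change g * x * g⁻¹ * (g * y * g⁻¹) = g * y * g⁻¹ * (g * x * g⁻¹) at h1
    have h2 : g * (x * y) * g⁻¹ = g * (y * x) * g⁻¹ := by
      calc g * (x * y) * g⁻¹ = g * x * g⁻¹ * (g * y * g⁻¹) := by group
        _ = g * y * g⁻¹ * (g * x * g⁻¹) := h1
        _ = _ := by group
    exact mul_left_cancel (mul_right_cancel h2)
  refine H666.TI.isTI_of_sylow fun P Q x hxP hxQ hx1 => ?_
  have hK : IsPGroup p (zpowers x) := P.isPGroup'.to_le ((zpowers_le).2 hxP)
  have hK1 : zpowers x ≠ ⊥ := by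
    rw [Ne, zpowers_eq_bot]
    exact hx1
  obtain ⟨V, hV, hKV, -, hNV, hc⟩ := exists_par hL hK hK1
  -- a Sylow subgroup containing `x` lies in the centraliser of `x`
  have hPN : ∀ R : Sylow p T, x ∈ R → (R : Subgroup T) ≤ normalizer ((zpowers x : Subgroup T) : Set T) := by
    intro R hxR y hy
    refine centralizer_le_normalizer _ ?_
    rw [mem_centralizer_iff]
    intro k hk
    exact hab R k ((zpowers_le (H := (R : Subgroup T))).2 hxR hk) y hy
  have hVR : ∀ R : Sylow p T, x ∈ R → V = R := by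
    intro R hxR
    -- `V ≤ R` since `V` is normalised by `R`
    have h1 : (R : Subgroup T) ≤ normalizer (V : Set T) := (hPN R hxR).trans hNV
    have h2 : IsPGroup p ↥((R : Subgroup T) ⊔ V) := IsPGroup.to_sup_of_normal_right' R.isPGroup' hV h1
    have h3 : (R : Subgroup T) ⊔ V = R := R.is_maximal' h2 le_sup_left
    have h4 : V ≤ R := by
      rw [← h3]
      exact le_sup_right
    refine le_antisymm h4 fun y hy => ?_
    exact hc y (hPN R hxR hy) fun v hv => hab R y hy v (h4 hv)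
  exact Sylow.ext ((hVR P hxP).symm.trans (hVR Q hxQ))

theorem locChar_of_lie (hp2 : p ≠ 2) (hG : IsLieTypeChar p T) : LocChar p T :=
  H400.LieLocal.local_char_of_lie hG fun h => hp2 h.1

theorem dvd_card_of_lie [IsSimpleGroup T] (hG : IsLieTypeChar p T) : p ∣ Nat.card T := by
  obtain ⟨P, U, ⟨s, hs⟩, hU⟩ := H979.LieSplit.hasSplit_of_isLieTypeChar hp.out hG
  exact H580.LieBad.dvd_card hU hs

theorem noncomm_of_lie [IsSimpleGroup T] (hG : IsLieTypeChar p T) : ¬ IsMulCommutative T := by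
  intro h
  obtain ⟨a, b, hab⟩ := H400.LieLocal.exists_noncomm
    (H400.LieLocal.center_eq_bot (H979.LieSplit.hasSplit_of_isLieTypeChar hp.out hG))
  exact hab (h.is_comm.comm a b)

theorem sylow_ne_bot {q : ℕ} [hq : Fact q.Prime] (h : q ∣ Nat.card T) (Q : Sylow q T) : (Q : Subgroup T) ≠ ⊥ := by
  intro h1
  have h2 : q ∣ Nat.card Q := Q.dvd_card_of_dvd_card h
  rw [h1, card_bot] at h2
  exact hq.out.one_lt.ne' (Nat.dvd_one.1 h2)

/-- **The Sylow `p`-subgroups are not abelian.** -/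
theorem notAb_of_lie [IsSimpleGroup T] (hp2 : p ≠ 2) (hG : IsLieTypeChar p T)
    (hL2 : ¬ ∃ (F : Type) (_ : Field F) (_ : Fintype F), CharP F p ∧
      Nonempty (T ≃* Matrix.ProjectiveSpecialLinearGroup (Fin 2) F)) (P : Sylow p T) :
    ¬ IsMulCommutative (P : Subgroup T) := by
  intro hab
  rcases H818.StrP.Own.own hp2 hG with h | h | ⟨F, _, _, n, hn, hF, ⟨e⟩⟩ | ⟨rfl, h⟩
  · refine H666.Link.not_noSP (noncomm_of_lie hG)
      (isTI_of_comm (locChar_of_lie hp2 hG) P hab) P.isPGroup' (sylow_ne_bot (dvd_card_of_lie hG) P) h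
  · exact hL2 h
  · have hch : CharP F p := by
      obtain ⟨r, hr⟩ := CharP.exists F
      have hrp : r.Prime := CharP.char_is_prime F r
      have : Fact r.Prime := ⟨hrp⟩
      obtain ⟨m, -, hm⟩ := FiniteField.card F r
      have h1 : r ∣ p ^ (2 * n) := by
        rw [← hF, hm]
        exact dvd_pow_self _ m.ne_zero
      have h2 := (Nat.prime_dvd_prime_iff_eq hrp hp.out).1 (hrp.dvd_of_dvd_pow h1)
      rwa [h2] at hr
    have : Finite (PSU 3 F (p ^ n)) := Quotient.finite _
    exact H800.Sp.NotAb.of_mulEquiv e.symm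
      (H794.PsuNotAb.notAb (by rw [hF, ← pow_mul, mul_comm]) le_rfl) P hab
  · exact H794.DefAb.notAb_ree h P hab

/-- **Row R5.** -/
theorem not_nctx_own [IsSimpleGroup T] (hp2 : p ≠ 2) (hG : IsLieTypeChar p T) : ¬ NCtx p T := by
  intro h
  obtain ⟨x, hx, -, Q, hQ, -⟩ := h.inv
  have h1 : x ∈ Q := mem_sylow_of_comm (locChar_of_lie hp2 hG) Q (sylow_ne_bot h.dvd Q) hQ
  obtain ⟨k, hk⟩ := Q.isPGroup' ⟨x, h1⟩
  have h2 : x ^ p ^ k = 1 := congrArg Subtype.val hk
  have h3 := orderOf_dvd_of_pow_eq_one h2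
  rw [hx] at h3
  exact hp2 ((Nat.prime_dvd_prime_iff_eq Nat.prime_two hp.out).1 (Nat.prime_two.dvd_of_dvd_pow h3)).symm

/-- **Row R2.** -/
theorem not_nctx'_of_lie [IsSimpleGroup T] (hp2 : p ≠ 2) (hG : IsLieTypeChar p T)
    (hL2 : ¬ ∃ (F : Type) (_ : Field F) (_ : Fintype F), CharP F p ∧
      Nonempty (T ≃* Matrix.ProjectiveSpecialLinearGroup (Fin 2) F))
    {q : ℕ} (hqp : q ≠ p) (hq1 : ¬ q ∣ p - 1) : ¬ NCtx' q T := by
  intro h
  have hq : Fact q.Prime := ⟨h.prime⟩
  have hL := locChar_of_lie hp2 hG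
  obtain ⟨P⟩ : Nonempty (Sylow p T) := inferInstance
  have hnc : ¬ IsCyclic (P : Subgroup T) := fun hc => notAb_of_lie hp2 hG hL2 P hc.isMulCommutative
  obtain ⟨x, -, hx, -, Q, hQ, hfix⟩ := h.noncyc p hp.out hp2 P P.isPGroup' hnc
  have hK : IsPGroup p (zpowers x) := IsPGroup.of_card (n := 1) (by rw [Nat.card_zpowers, hx, pow_one])
  have hK1 : zpowers x ≠ ⊥ := by
    rw [Ne, zpowers_eq_bot]
    rintro rfl
    rw [orderOf_one] at hx
    exact hp.out.one_lt.ne hx
  obtain ⟨V, hV, hKV, -, hNV, hc⟩ := exists_par hL hK hK1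
  have hxV : x ∈ V := hKV (mem_zpowers x)
  have hcz : ∀ y : T, y * x = x * y → y ∈ normalizer ((zpowers x : Subgroup T) : Set T) := by
    intro y hy
    refine centralizer_le_normalizer _ ?_
    rw [mem_centralizer_iff]
    rintro k ⟨j, rfl⟩
    have h1 : Commute y x := hy
    exact (h1.zpow_right j).symm.eq
  have hDV : zpowers x ≤ normalizer (V : Set T) := le_trans le_normalizer hNV
  -- `Q` centralises `C_V(x)`
  have h1 := hfix p hp.out hqp.symm hq1 (V ⊓ centralizer ({x} : Set T)) (hV.to_le inf_le_left) inf_le_right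
    (by
      intro y hy
      have hyV : y ∈ normalizer (V : Set T) := hNV (hcz y (hQ y hy))
      have hyc : ∀ z : T, z ∈ centralizer ({x} : Set T) ↔ y * z * y⁻¹ ∈ centralizer ({x} : Set T) := by
        intro z
        rw [mem_centralizer_singleton_iff, mem_centralizer_singleton_iff]
        have h2 : y⁻¹ * x * y = x := by
          rw [mul_assoc, ← hQ y hy]; group
        have h3 : y * x * y⁻¹ = x := by
          rw [hQ y hy]; group
        constructor
        · intro hz
          calc y * z * y⁻¹ * x = y * (z * (y⁻¹ * x * y)) * y⁻¹ := by group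
            _ = y * (z * x) * y⁻¹ := by rw [h2]
            _ = y * (x * z) * y⁻¹ := by rw [hz]
            _ = y * x * y⁻¹ * (y * z * y⁻¹) := by group
            _ = _ := by rw [h3]
        · intro hz
          calc z * x = y⁻¹ * (y * z * y⁻¹ * (y * x * y⁻¹)) * y := by group
            _ = y⁻¹ * (y * z * y⁻¹ * x) * y := by rw [h3]
            _ = y⁻¹ * (x * (y * z * y⁻¹)) * y := by rw [hz]
            _ = y⁻¹ * x * y * z := by group
            _ = _ := by rw [h2]
      rw [mem_normalizer_iff]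
      intro z
      show z ∈ V ⊓ centralizer ({x} : Set T) ↔ y * z * y⁻¹ ∈ V ⊓ centralizer ({x} : Set T)
      rw [mem_inf, mem_inf, ← hyc z, mem_normalizer_iff.1 hyV z])
  have h2 : ∀ y ∈ Q, y ∈ V := by
    intro y hy
    obtain ⟨k, hk⟩ := Q.isPGroup' ⟨y, hy⟩
    have hyk : y ^ q ^ k = 1 := congrArg Subtype.val hk
    have hcop : Nat.Coprime (orderOf y) p := by
      have h3 : Nat.Coprime (q ^ k) p := Nat.Coprime.pow_left k ((Nat.coprime_primes hq.out hp.out).2 hqp)
      exact Nat.Coprime.coprime_dvd_left (orderOf_dvd_of_pow_eq_one hyk) h3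
    have h4 : y ∈ centralizer (V : Set T) := by
      refine H225.AxB.axb (D := zpowers x) hV hDV ?_ (hNV (hcz y (hQ y hy))) hcop ?_ ?_
      · intro d hd
        obtain ⟨j, hj⟩ := hK ⟨d, hd⟩
        refine ⟨j, ?_⟩
        have h5 : d ^ p ^ j = 1 := congrArg Subtype.val hj
        rw [h5]
        exact one_mem _
      · rintro d ⟨j, rfl⟩
        have h5 : Commute y x := hQ y hy
        have h6 : x ^ j * y * (x ^ j)⁻¹ * y⁻¹ = 1 := by
          rw [← (h5.zpow_right j).eq]; group
        show x ^ j * y * (x ^ j)⁻¹ * y⁻¹ ∈ _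
        rw [h6]
        exact one_mem _
      · intro v hv hvx
        refine h1 y hy v (mem_inf.2 ⟨hv, ?_⟩)
        rw [mem_centralizer_singleton_iff]
        exact (hvx x (mem_zpowers x)).symm
    exact hc y (hcz y (hQ y hy)) fun v hv => (mem_centralizer_iff.1 h4 v hv).symm
  -- so `Q = 1`
  apply sylow_ne_bot h.dvd Q
  rw [eq_bot_iff]
  intro y hy
  have h3 : IsPGroup p (Q : Subgroup T) := hV.to_le h2
  have h4 := IsPGroup.disjoint_of_ne q p hqp (Q : Subgroup T) (Q : Subgroup T) Q.isPGroup' h3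
  rw [disjoint_self] at h4
  rw [h4] at hy
  exact hy

/-- **Rows R2 and R5.** -/
theorem not_nctx_of_lie [IsSimpleGroup T] (hp2 : p ≠ 2) (hG : IsLieTypeChar p T)
    (hL2 : ¬ ∃ (F : Type) (_ : Field F) (_ : Fintype F), CharP F p ∧
      Nonempty (T ≃* Matrix.ProjectiveSpecialLinearGroup (Fin 2) F))
    {q : ℕ} (hq : q = p ∨ ¬ q ∣ p - 1) : ¬ NCtx q T := by
  by_cases hqp : q = p
  · rw [hqp]
    exact not_nctx_own hp2 hG
  · rcases hq with h | h
    · exact absurd h hqp
    · exact fun h1 => not_nctx'_of_lie hp2 hG hL2 hqp h h1.weak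

end Cfsg.Agent.H858.NRowLie
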