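import Mathlib
set_option linter.all false

/-!
# Normalizers and centralizers of subgroups of prime order
-/

set_option autoImplicit false

namespace Cfsg.Agent.H858.NormC

variable {G : Type*} [Group G]

theorem centralizer_le_normalizer (P : Subgroup G) :
    Subgroup.centralizer (P : Set G) ≤ Subgroup.normalizer (P : Set G) :=
  Subgroup.centralizer_le_normalizer (P : Set G)

/-- `|N(P)| = j |C(P)|` with `j` a divisor of the order of `Aut P` -/
theorem exists_card_normalizer [Finite G] (P : Subgroup G) :
    ∃ j, j ∣ Nat.card (MulAut P) ∧ Nat.card (Subgroup.normalizer (P : Set G)) =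
      j * Nat.card (Subgroup.centralizer (P : Set G)) := by
  refine ⟨Nat.card P.normalizerMonoidHom.range, ?_, ?_⟩
  · exact Subgroup.card_subgroup_dvd_card _
  · rw [← Subgroup.index_ker, Subgroup.normalizerMonoidHom_ker]
    have h2 : Nat.card ((Subgroup.centralizer (P : Set G)).subgroupOf
        (Subgroup.normalizer (P : Set G))) = Nat.card (Subgroup.centralizer (P : Set G)) := by
      exact Nat.card_congr (Subgroup.subgroupOfEquivOfLe (centralizer_le_normalizer P)).toEquiv
    rw [← h2]
    exact (Subgroup.index_mul_card _).symm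

/-- for a subgroup of prime order `p` the index of the centralizer divides `p - 1` -/
theorem exists_card_normalizer_prime [Finite G] {p : ℕ} (hp : p.Prime) {P : Subgroup G}
    (hP : Nat.card P = p) : ∃ j, j ∣ p - 1 ∧ Nat.card (Subgroup.normalizer (P : Set G)) =
      j * Nat.card (Subgroup.centralizer (P : Set G)) := by
  have : Fact p.Prime := ⟨hp⟩
  have hc : IsCyclic P := isCyclic_of_prime_card hP
  obtain ⟨j, h1, h2⟩ := exists_card_normalizer P
  rw [IsCyclic.card_mulAut, hP, Nat.totient_prime hp] at h1
  exact ⟨j, h1, h2⟩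

theorem centralizer_zpowers (g : G) :
    Subgroup.centralizer ((Subgroup.zpowers g : Subgroup G) : Set G) = Subgroup.centralizer {g} := by
  apply le_antisymm
  · exact Subgroup.centralizer_le (Set.singleton_subset_iff.2 (Subgroup.mem_zpowers g))
  · intro c hc
    rw [Subgroup.mem_centralizer_iff] at hc ⊢
    rintro _ ⟨k, rfl⟩
    have h : Commute g c := hc g rfl
    exact (h.zpow_left k).eq

/-- the normalizer of a Sylow subgroup has index 1 modulo `p` -/
theorem index_normalizer_modEq [Finite G] {p : ℕ} [Fact p.Prime] {P : Subgroup G}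
    (hP : IsPGroup p P) (hi : ¬ p ∣ P.index) :
    (Subgroup.normalizer (P : Set G)).index ≡ 1 [MOD p] := by
  have h := card_sylow_modEq_one p G
  rwa [Sylow.card_eq_index_normalizer (hP.toSylow hi)] at h

/-- a subgroup of prime order `p` whose square does not divide the order of the group -/
theorem not_dvd_index [Finite G] {p : ℕ} {P : Subgroup G} (hP : Nat.card P = p)
    (h : ¬ p * p ∣ Nat.card G) : ¬ p ∣ P.index := by
  intro h1
  apply h
  rw [← P.card_mul_index, hP]
  exact Nat.mul_dvd_mul_left _ h1

theorem isPGroup_of_card {p : ℕ} {P : Subgroup G} (hP : Nat.card P = p) : IsPGroup p P :=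
  IsPGroup.of_card (n := 1) (by rw [hP, pow_one])

/-- membership in the normalizer of a cyclic group of finite order -/
theorem mem_normalizer_zpowers [Finite G] {g n : G} {k : ℕ} (h : n * g * n⁻¹ = g ^ k) :
    n ∈ Subgroup.normalizer ((Subgroup.zpowers g : Subgroup G) : Set G) := by
  have h1 : (Subgroup.zpowers g).map (MulAut.conj n).toMonoidHom ≤ Subgroup.zpowers g := by
    rw [MonoidHom.map_zpowers, Subgroup.zpowers_le]
    show n * g * n⁻¹ ∈ _
    rw [h]
    exact Subgroup.npow_mem_zpowers g k
  have h2 : (Subgroup.zpowers g).map (MulAut.conj n).toMonoidHom = Subgroup.zpowers g := by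
    apply Subgroup.eq_of_le_of_card_ge h1
    exact (Nat.card_congr ((Subgroup.zpowers g).equivMapOfInjective (MulAut.conj n).toMonoidHom
      (MulAut.conj n).injective).toEquiv).le
  rw [Subgroup.mem_normalizer_iff]
  intro x
  constructor
  · intro hx
    rw [← h2]
    exact ⟨x, hx, rfl⟩
  · intro hx
    rw [← h2] at hx
    obtain ⟨y, hy, hyx⟩ := hx
    have h5 : n * y * n⁻¹ = n * x * n⁻¹ := hyx
    have h6 : y = x := mul_left_cancel (mul_right_cancel h5)
    rwa [← h6]

theorem orderOf_dvd_of_mem [Finite G] {H : Subgroup G} {g : G} (h : g ∈ H) :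
    orderOf g ∣ Nat.card H := by
  rw [← Subgroup.orderOf_mk g h]
  exact orderOf_dvd_natCard _

end Cfsg.Agent.H858.NormC
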