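import Mathlib
import Cfsg.Prelude.Def_TwoFusion
import Cfsg.Agent.H858.NormC
set_option linter.all false

/-!
# General lemmas
-/

set_option autoImplicit false

open Cfsg
open scoped Pointwise

namespace Cfsg.Agent.H858.Abs

variable {G : Type*} [Group G]

/-! ### Products of commuting subgroups -/

section prod

variable {A B C : Subgroup G}

theorem card_mul_le [Finite G] (hA : A ≤ C) (hB : B ≤ C) (hinf : A ⊓ B = ⊥) :
    Nat.card A * Nat.card B ≤ Nat.card C := by
  rw [← Nat.card_prod]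
  refine Nat.card_le_card_of_injective (fun z : A × B => (⟨(z.1 : G) * z.2,
    C.mul_mem (hA z.1.2) (hB z.2.2)⟩ : C)) ?_
  rintro ⟨a, b⟩ ⟨a', b'⟩ h
  have h1 : (a : G) * b = a' * b' := congrArg Subtype.val h
  have h2 : (a' : G)⁻¹ * a = b' * (b : G)⁻¹ := by
    calc (a' : G)⁻¹ * a = (a' : G)⁻¹ * (a * b) * (b : G)⁻¹ := by group
      _ = b' * (b : G)⁻¹ := by rw [h1]; group
  have h3 : (a' : G)⁻¹ * a ∈ A ⊓ B :=
    Subgroup.mem_inf.2 ⟨A.mul_mem (A.inv_mem a'.2) a.2, by
      rw [h2]; exact B.mul_mem b'.2 (B.inv_mem b.2)⟩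
  rw [hinf, Subgroup.mem_bot] at h3
  have h4 : (a : G) = a' := (inv_mul_eq_one.1 h3).symm
  rw [h2] at h3
  have h5 : (b : G) = b' := (mul_inv_eq_one.1 h3).symm
  exact Prod.ext (Subtype.ext h4) (Subtype.ext h5)

theorem isInternalDirectProduct [Finite G] (hA : A ≤ C) (hB : B ≤ C)
    (hcomm : ∀ a ∈ A, ∀ b ∈ B, a * b = b * a) (hinf : A ⊓ B = ⊥)
    (hcard : Nat.card C ≤ Nat.card A * Nat.card B) : IsInternalDirectProduct A B C := by
  refine ⟨hA, hB, hcomm, hinf, ?_⟩
  apply Subgroup.eq_of_le_of_card_ge (sup_le hA hB)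
  exact hcard.trans (card_mul_le le_sup_left le_sup_right hinf)

end prod

/-! ### Normalizers of subgroups of prime order -/

theorem mul_card_centralizer_dvd [Finite G] {P : Subgroup G} {r : G} {p n : ℕ} [Fact p.Prime]
    (hr : r ∈ Subgroup.normalizer (P : Set G)) (h1 : r ^ p ^ (n + 1) = 1)
    (h2 : r ^ p ^ n ∉ Subgroup.centralizer (P : Set G)) :
    p ^ (n + 1) * Nat.card (Subgroup.centralizer (P : Set G)) ∣
      Nat.card (Subgroup.normalizer (P : Set G)) := by
  set f := P.normalizerMonoidHom with hf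
  set r' : Subgroup.normalizer (P : Set G) := ⟨r, hr⟩ with hr'
  have h3 : orderOf (f r') = p ^ (n + 1) := by
    apply orderOf_eq_prime_pow
    · intro h
      apply h2
      rw [← map_pow] at h
      have h4 : r' ^ p ^ n ∈ f.ker := h
      rw [hf, Subgroup.normalizerMonoidHom_ker, Subgroup.mem_subgroupOf] at h4
      exact h4
    · rw [← map_pow]
      have h4 : r' ^ p ^ (n + 1) = 1 := Subtype.ext h1
      rw [h4, map_one]
  have h4 : p ^ (n + 1) ∣ Nat.card f.range := by
    rw [← h3, ← Subgroup.orderOf_mk (f r') (MonoidHom.mem_range.2 ⟨r', rfl⟩)]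
    exact orderOf_dvd_natCard _
  have h5 : Nat.card (Subgroup.normalizer (P : Set G)) =
      Nat.card f.range * Nat.card (Subgroup.centralizer (P : Set G)) := by
    rw [← Subgroup.index_ker, hf, Subgroup.normalizerMonoidHom_ker]
    have h6 : Nat.card ((Subgroup.centralizer (P : Set G)).subgroupOf
        (Subgroup.normalizer (P : Set G))) = Nat.card (Subgroup.centralizer (P : Set G)) :=
      Nat.card_congr (Subgroup.subgroupOfEquivOfLe (NormC.centralizer_le_normalizer P)).toEquiv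
    rw [← h6]
    exact (Subgroup.index_mul_card _).symm
  rw [h5]
  exact Nat.mul_dvd_mul_right h4 _

/-- two subgroups of order `p` are conjugate if `p ^ 2` does not divide the order -/
theorem exists_conj_prime [Finite G] {p : ℕ} [Fact p.Prime] {P P' : Subgroup G}
    (hP : Nat.card P = p) (hP' : Nat.card P' = p) (hpp : ¬ p * p ∣ Nat.card G) :
    ∃ g : G, P.map (MulAut.conj g).toMonoidHom = P' := by
  have h1 := NormC.isPGroup_of_card hP
  have h2 := NormC.isPGroup_of_card hP'
  obtain ⟨g, hg⟩ := MulAction.exists_smul_eq G (h1.toSylow (NormC.not_dvd_index hP hpp))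
    (h2.toSylow (NormC.not_dvd_index hP' hpp))
  refine ⟨g, ?_⟩
  have h3 := congrArg (fun S : Sylow p G => (S : Subgroup G)) hg
  exact h3

theorem map_normalizer_equiv {H : Type*} [Group H] (f : G ≃* H) (P : Subgroup G) :
    (Subgroup.normalizer (P : Set G)).map f.toMonoidHom =
      Subgroup.normalizer ((P.map f.toMonoidHom : Subgroup H) : Set H) :=
  Subgroup.map_equiv_normalizer_eq P f

theorem map_centralizer_equiv {H : Type*} [Group H] (f : G ≃* H) (P : Subgroup G) :
    (Subgroup.centralizer (P : Set G)).map f.toMonoidHom =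
      Subgroup.centralizer ((P.map f.toMonoidHom : Subgroup H) : Set H) := by
  ext x
  rw [Subgroup.mem_map, Subgroup.mem_centralizer_iff]
  constructor
  · rintro ⟨y, hy, rfl⟩ _ ⟨p, hp, rfl⟩
    rw [← map_mul, ← map_mul, Subgroup.mem_centralizer_iff.1 hy p hp]
  · intro h
    refine ⟨f.symm x, ?_, f.apply_symm_apply x⟩
    rw [Subgroup.mem_centralizer_iff]
    intro p hp
    apply f.injective
    rw [map_mul, map_mul, f.apply_symm_apply]
    exact h _ ⟨p, hp, rfl⟩

theorem card_map_equiv {H : Type*} [Group H] (f : G ≃* H) (P : Subgroup G) :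
    Nat.card (P.map f.toMonoidHom) = Nat.card P :=
  (Nat.card_congr (P.equivMapOfInjective f.toMonoidHom f.injective).toEquiv).symm

theorem card_normalizer_conj {P P' : Subgroup G} {g : G}
    (h : P.map (MulAut.conj g).toMonoidHom = P') :
    Nat.card (Subgroup.normalizer (P' : Set G)) = Nat.card (Subgroup.normalizer (P : Set G)) := by
  rw [← h, ← map_normalizer_equiv, card_map_equiv]

theorem card_centralizer_conj {P P' : Subgroup G} {g : G}
    (h : P.map (MulAut.conj g).toMonoidHom = P') :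
    Nat.card (Subgroup.centralizer (P' : Set G)) =
      Nat.card (Subgroup.centralizer (P : Set G)) := by
  rw [← h, ← map_centralizer_equiv, card_map_equiv]

/-! ### A group of order 20 -/

theorem exists_mul_of_mem_sup {A B : Subgroup G} (h : B ≤ Subgroup.normalizer (A : Set G))
    {x : G} (hx : x ∈ A ⊔ B) : ∃ a ∈ A, ∃ b ∈ B, x = a * b := by
  have h2 : x ∈ ((A ⊔ B : Subgroup G) : Set G) := hx
  rw [Subgroup.coe_mul_of_right_le_normalizer_left A B h] at h2
  obtain ⟨a, ha, b, hb, rfl⟩ := h2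
  exact ⟨a, ha, b, hb, rfl⟩

theorem card_sup [Finite G] {A B : Subgroup G} (h : B ≤ Subgroup.normalizer (A : Set G))
    (hinf : A ⊓ B = ⊥) : Nat.card (A ⊔ B : Subgroup G) = Nat.card A * Nat.card B := by
  apply le_antisymm
  · rw [← Nat.card_prod]
    refine Nat.card_le_card_of_surjective (fun z : A × B => (⟨(z.1 : G) * z.2,
      Subgroup.mul_mem _ ((le_sup_left : A ≤ A ⊔ B) z.1.2)
        ((le_sup_right : B ≤ A ⊔ B) z.2.2)⟩ : (A ⊔ B : Subgroup G))) ?_
    rintro ⟨x, hx⟩
    obtain ⟨a, ha, b, hb, rfl⟩ := exists_mul_of_mem_sup h hx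
    exact ⟨(⟨a, ha⟩, ⟨b, hb⟩), rfl⟩
  · exact card_mul_le le_sup_left le_sup_right hinf

section frob

variable {q r : G}

theorem conj_sq (h : r * q = q * q * r) : r ^ 2 * q * (r ^ 2)⁻¹ = q ^ 4 := by
  have h1 : r * q * r⁻¹ = q ^ 2 := by rw [h, pow_two]; group
  calc r ^ 2 * q * (r ^ 2)⁻¹ = r * (r * q * r⁻¹) * r⁻¹ := by rw [pow_two]; group
    _ = (r * q * r⁻¹) ^ 2 := by rw [h1, ← conj_pow, h1]
    _ = q ^ 4 := by rw [h1, ← pow_mul]

theorem sq_notMem (h : r * q = q * q * r) (h5 : q ^ 5 = 1) (hq : q ≠ 1) :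
    r ^ 2 ∉ Subgroup.centralizer ((Subgroup.zpowers q : Subgroup G) : Set G) := by
  intro h1
  rw [NormC.centralizer_zpowers, Subgroup.mem_centralizer_iff] at h1
  have h2 := h1 q rfl
  have h3 := conj_sq h
  have h4 : r ^ 2 * q * (r ^ 2)⁻¹ = q := by rw [← h2]; group
  rw [h4] at h3
  have h5' : q ^ 3 = 1 := by
    have : q * q ^ 3 = q * 1 := by rw [mul_one, ← pow_succ', ← h3]
    exact mul_left_cancel this
  apply hq
  calc q = (q ^ 3) ^ 2 * (q ^ 5)⁻¹ := by group
    _ = 1 := by rw [h5', h5]; simp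

theorem frob20 [Finite G] (h : r * q = q * q * r) (h5 : q ^ 5 = 1) (hq : q ≠ 1)
    (h4 : r ^ 4 = 1) : ∃ R : Subgroup G, Subgroup.zpowers q ≤ R ∧ r ∈ R ∧
      R ≤ Subgroup.normalizer ((Subgroup.zpowers q : Subgroup G) : Set G) ∧ Nat.card R = 20 ∧
      R ⊓ Subgroup.centralizer ((Subgroup.zpowers q : Subgroup G) : Set G) =
        Subgroup.zpowers q := by
  have : Fact (Nat.Prime 5) := ⟨by norm_num⟩
  have hr : r ∈ Subgroup.normalizer ((Subgroup.zpowers q : Subgroup G) : Set G) :=
    NormC.mem_normalizer_zpowers (k := 2) (by rw [h, pow_two]; group)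
  have hrz : Subgroup.zpowers r ≤ Subgroup.normalizer ((Subgroup.zpowers q : Subgroup G) : Set G) := by
    rw [Subgroup.zpowers_le]; exact hr
  have hn := sq_notMem h h5 hq
  have hC : ∀ x ∈ Subgroup.zpowers r,
      x ∈ Subgroup.centralizer ((Subgroup.zpowers q : Subgroup G) : Set G) → x = 1 := by
    rintro _ ⟨k, rfl⟩ hx
    change r ^ k ∈ _ at hx
    change r ^ k = 1
    obtain ⟨m, hm⟩ : ∃ m : ℤ, k = 4 * m ∨ k = 4 * m + 1 ∨ k = 4 * m + 2 ∨ k = 4 * m + 3 :=
      ⟨k / 4, by omega⟩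
    have e4 : r ^ (4 * m) = 1 := by rw [zpow_mul, show r ^ (4 : ℤ) = r ^ 4 from by norm_cast, h4, one_zpow]
    rcases hm with rfl | rfl | rfl | rfl
    · exact e4
    · exfalso
      rw [zpow_add, e4, one_mul, zpow_one] at hx
      exact hn (Subgroup.pow_mem _ hx 2)
    · exfalso
      rw [zpow_add, e4, one_mul] at hx
      exact hn (by exact_mod_cast hx)
    · exfalso
      rw [zpow_add, e4, one_mul] at hx
      have h6 : r ^ 3 ∈ Subgroup.centralizer ((Subgroup.zpowers q : Subgroup G) : Set G) := by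
        exact_mod_cast hx
      have h7 := Subgroup.pow_mem _ h6 2
      have e6 : (r ^ 3) ^ 2 = r ^ 2 := by
        calc (r ^ 3) ^ 2 = r ^ 4 * r ^ 2 := by group
          _ = r ^ 2 := by rw [h4, one_mul]
      rw [e6] at h7
      exact hn h7
  have hQC : Subgroup.zpowers q ≤
      Subgroup.centralizer ((Subgroup.zpowers q : Subgroup G) : Set G) := by
    rw [NormC.centralizer_zpowers, Subgroup.zpowers_le, Subgroup.mem_centralizer_iff]
    rintro _ rfl; rfl
  have hinf : Subgroup.zpowers q ⊓ Subgroup.zpowers r = ⊥ := by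
    rw [eq_bot_iff]
    intro x hx
    obtain ⟨h6, h7⟩ := Subgroup.mem_inf.1 hx
    rw [Subgroup.mem_bot]
    exact hC x h7 (hQC h6)
  have ho : orderOf r = 4 := by
    have h6 : orderOf r = 2 ^ (1 + 1) := orderOf_eq_prime_pow (by
      intro h7
      rw [pow_one] at h7
      exact hn (by rw [h7]; exact Subgroup.one_mem _)) (by simpa using h4)
    simpa using h6
  refine ⟨Subgroup.zpowers q ⊔ Subgroup.zpowers r, le_sup_left,
    (le_sup_right : _ ≤ Subgroup.zpowers q ⊔ Subgroup.zpowers r) (Subgroup.mem_zpowers r),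
    sup_le Subgroup.le_normalizer hrz, ?_, ?_⟩
  · rw [card_sup hrz hinf, Nat.card_zpowers, Nat.card_zpowers, ho, orderOf_eq_prime h5 hq]
  · apply le_antisymm
    · intro x hx
      obtain ⟨h6, h7⟩ := Subgroup.mem_inf.1 hx
      obtain ⟨a, ha, b, hb, rfl⟩ := exists_mul_of_mem_sup hrz h6
      have h8 : b ∈ Subgroup.centralizer ((Subgroup.zpowers q : Subgroup G) : Set G) := by
        have e : b = a⁻¹ * (a * b) := by group
        rw [e]
        exact Subgroup.mul_mem _ (Subgroup.inv_mem _ (hQC ha)) h7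
      rw [hC b hb h8, mul_one]
      exact ha
    · exact le_inf le_sup_left hQC

end frob

/-! ### A non-split extension -/

theorem sign_eq_one_of_odd {α : Type*} [Fintype α] [DecidableEq α] {σ : Equiv.Perm α} {n : ℕ}
    (hn : Odd n) (h : σ ^ n = 1) : Equiv.Perm.sign σ = 1 := by
  rcases Int.units_eq_one_or (Equiv.Perm.sign σ) with h1 | h1
  · exact h1
  · exfalso
    have h2 := congrArg Equiv.Perm.sign h
    rw [map_pow, h1, map_one, hn.neg_one_pow] at h2
    exact absurd h2 (by decide)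

theorem sign_eight {α : Type*} [Fintype α] [DecidableEq α] (hα : Fintype.card α = 8)
    {σ : Equiv.Perm α} (h8 : σ ^ 8 = 1) (h4 : σ ^ 4 ≠ 1) : Equiv.Perm.sign σ = -1 := by
  have ho : orderOf σ = 8 := by
    have h6 : orderOf σ = 2 ^ (2 + 1) := orderOf_eq_prime_pow (by simpa using h4) (by simpa using h8)
    simpa using h6
  have h1 : (8 : ℕ) ∈ σ.cycleType := by
    by_contra hne
    have h2 : σ.cycleType.lcm ∣ 4 := by
      rw [Multiset.lcm_dvd]
      intro b hb
      have h3 : b ∣ 8 := ho ▸ Equiv.Perm.dvd_of_mem_cycleType hb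
      have h4 : b ≠ 8 := fun h => hne (h ▸ hb)
      have h5 : b ≤ 8 := Nat.le_of_dvd (by norm_num) h3
      interval_cases b <;> omega
    rw [Equiv.Perm.lcm_cycleType, ho] at h2
    exact absurd h2 (by decide)
  have h2 : σ.cycleType = {8} := by
    obtain ⟨s, hs⟩ := Multiset.exists_cons_of_mem h1
    have h3 := Equiv.Perm.sum_cycleType_le σ
    rw [hs, Multiset.sum_cons, hα] at h3
    have h4 : s.sum = 0 := by omega
    have h5 : s = 0 := by
      rw [Multiset.eq_zero_iff_forall_notMem]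
      intro a ha
      have h6 : 2 ≤ a := Equiv.Perm.two_le_of_mem_cycleType (σ := σ) (by
        rw [hs]; exact Multiset.mem_cons_of_mem ha)
      have h7 := Multiset.single_le_sum (fun _ _ => Nat.zero_le _) a ha
      omega
    rw [hs, h5]; rfl
  rw [Equiv.Perm.sign_of_cycleType, h2]
  decide

theorem nonsplit {J : Type*} [Group J] [Finite J] {Z : Subgroup J} [Z.Normal]
    (hZ : Nat.card Z = 8) {s j : J} (hs : s ^ 7 = 1)
    (hsj : (s ^ 3 * j) ^ 3 = 1) (hj : j ^ 4 ∈ Z) (hj1 : j ^ 4 ≠ 1) (hj8 : j ^ 8 = 1)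
    (K : Subgroup J) : ¬ Z.IsComplement' K := by
  classical
  intro hK
  have h1 : K.index = 8 := by rw [hK.index_eq_card, hZ]
  have hfin : Fintype (J ⧸ K) := Fintype.ofFinite _
  have hα : Fintype.card (J ⧸ K) = 8 := by
    rw [← Nat.card_eq_fintype_card]; exact h1
  let φ : J →* Equiv.Perm (J ⧸ K) := MulAction.toPermHom J (J ⧸ K)
  have e1 : Equiv.Perm.sign (φ s) = 1 :=
    sign_eq_one_of_odd (n := 7) (by decide) (by rw [← map_pow, hs, map_one])
  have e2 : Equiv.Perm.sign (φ (s ^ 3 * j)) = 1 :=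
    sign_eq_one_of_odd (n := 3) (by decide) (by rw [← map_pow, hsj, map_one])
  have e3 : Equiv.Perm.sign (φ j) = 1 := by
    rw [map_mul, map_mul, map_pow, map_pow, e1, one_pow, one_mul] at e2
    exact e2
  have e4 : Equiv.Perm.sign (φ j) = -1 := by
    apply sign_eight hα
    · rw [← map_pow, hj8, map_one]
    · intro h
      rw [← map_pow] at h
      have h2 : (φ (j ^ 4)) (QuotientGroup.mk 1 : J ⧸ K) = QuotientGroup.mk 1 := by rw [h]; rfl
      have h3 : (QuotientGroup.mk (j ^ 4 * 1) : J ⧸ K) = QuotientGroup.mk 1 := h2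
      rw [mul_one, eq_comm, QuotientGroup.eq, inv_one, one_mul] at h3
      have h4 : j ^ 4 ∈ Z ⊓ K := Subgroup.mem_inf.2 ⟨hj, h3⟩
      rw [hK.disjoint.eq_bot, Subgroup.mem_bot] at h4
      exact hj1 h4
  rw [e3] at e4
  exact absurd e4 (by decide)

end Cfsg.Agent.H858.Abs
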