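import Cfsg.Agent.H858.Norm57
import Cfsg.Agent.J4.TrioAll
import Cfsg.Agent.H858.Abs
import Cfsg.Agent.StdL2.G23Aut
set_option linter.all false

-- part: H858/Data
section
/-!
# Relations in `J4` between `2^11 : M24` and the third generator `t`

The environment `LX` (a list of elements of the presented group `J4`): `j, v8, r, f, d2, d1, w, b, c, s, h,
z⁻¹, z`, then the basis of the normal subgroup `2^11` (numbers 13, …, 23), `_, _, x, y, y⁻¹, t`.
-/

set_option autoImplicit false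

open Cfsg

namespace Cfsg.Agent.H858.Data

open Cfsg.Agent.Lib Cfsg.Agent.Lib.F2MatGroup
open Cfsg.Agent.J4.Rep112 Cfsg.Agent.J4.LowerData Cfsg.Agent.J4.Lower Cfsg.Agent.J4.Beta
open Cfsg.Agent.J4.Classes
open Cfsg.Agent.H858.VK

/-- further program -/
def slpX : List (List ℕ) := [
  [14, 13, 14, 13, 15, 13, 15, 13, 14, 13, 14, 13, 14],
  [16, 14, 16, 14, 16, 14, 15, 14, 15, 14, 16, 14, 16],
  [15, 1],
  [0, 0, 0],
  [1, 1, 1, 1, 1, 1, 1],
  [4, 18, 4, 18, 3, 18, 4, 18, 3, 18, 3, 18, 4, 4, 18, 4, 18, 4, 18, 4, 4],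
  [19, 4, 19, 5, 5, 19, 5, 19, 5, 5],
  [7, 8, 9, 10, 12, 15, 17],
  [8, 14, 15, 18],
  [25, 0, 3],
  [2, 26, 5],
  [14, 17, 18, 21],
  [0, 5]]

/-- word of a vector -/
abbrev bb (v : ℕ) : List ℕ := bw 11 13 v

/-- basis of the centre -/
def zl : List ℕ := [165, 873, 1394]
/-- basis of the complement -/
def ul : List ℕ := [1, 14, 20, 34, 68, 260]

/-- `t V(u) t` -/
def tu (u : ℕ) : List ℕ := 29 :: (bb u ++ [29])

/-- commutators -/
def cm : List (List ℕ) := [[0, 1726, 0, 165, 1495, 1394], [1726, 0, 0, 1563, 1726, 165],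
  [0, 0, 0, 1726, 1563, 1563], [165, 1563, 1726, 0, 165, 972], [1495, 1726, 1563, 165, 0, 1726],
  [1394, 165, 1563, 972, 1726, 0]]

/-- conjugation by `d1` -/
def cd1 : List (ℕ × ℕ) := [(354, 1494), (20, 1404), (14, 177), (94, 1525), (56, 1427), (103, 712)]
/-- conjugation by `d2` -/
def cd2 : List (ℕ × ℕ) := [(375, 1494), (14, 1497), (26, 177), (103, 1593), (306, 1631), (57, 1978)]

/-- equations: the centre -/
def eqsZ : List (List ℕ × List ℕ) := zl.map fun v => (tu v, bb v)

/-- equations: commutators -/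
def eqsC : List (List ℕ × List ℕ) := (List.range 6).flatMap fun i => (List.range 6).map fun k =>
  (bb (ul.getD i 0) ++ tu (ul.getD k 0) ++ bb (ul.getD i 0) ++ tu (ul.getD k 0),
    bb ((cm.getD i []).getD k 0))

/-- equations: `d1`, `d2` -/
def eqsD : List (List ℕ × List ℕ) := (List.range 6).flatMap fun k =>
  [(5 :: (tu (ul.getD k 0) ++ [5]), bb (cd1.getD k (0, 0)).1 ++ tu (cd1.getD k (0, 0)).2),
   (4 :: (tu (ul.getD k 0) ++ [4]), bb (cd2.getD k (0, 0)).1 ++ tu (cd2.getD k (0, 0)).2)]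

/-- further equations -/
def eqsF : List (List ℕ × List ℕ) := [
  ([29, 29], []), ([11, 12], []), ([3, 3, 3, 3, 3], []), ([2, 3], [3, 3, 2]), ([2, 2, 2, 2], []),
  ([0, 3], [3, 0]), ([0, 0, 0, 0], bb 1394), ([9, 9, 9, 0, 9, 9, 9, 0, 9, 9, 9, 0], []),
  ([2, 9], [9, 2]), ([3, 9], [9, 3])]

/-- all equations -/
def eqsX : List (List ℕ × List ℕ) := eqsZ ++ (eqsC ++ (eqsD ++ eqsF))

/-- five row vectors -/
def vec (i : ℕ) : ℕ := [5192296858534827628530496329220095, 1328676559145397982914482043764736,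
  812893351590387810937780547196433, 408823556940240523090497163493672,
  2641903390858801311587736574765254].getD i 0

/-- the permutations of the five vectors -/
def prm : List (ℕ × List ℕ) := [(26, [0, 1, 3, 2, 4]), (12, [0, 1, 2, 4, 3]), (29, [1, 0, 2, 3, 4]),
  (13, [0, 1, 2, 3, 4]), (14, [0, 2, 1, 4, 3]), (15, [0, 4, 3, 2, 1]), (16, [0, 3, 4, 1, 2]),
  (17, [0, 4, 3, 2, 1]), (18, [0, 2, 1, 4, 3]), (19, [0, 4, 3, 2, 1]), (20, [0, 3, 4, 1, 2]),
  (21, [0, 4, 3, 2, 1]), (22, [0, 4, 3, 2, 1]), (23, [0, 4, 3, 2, 1])]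

/-- the check of the permutations -/
def pchk (L : List ℕ) : Bool := prm.all fun p => (List.range 5).all fun i =>
  Nat.beq (F2Mat.vmul 112 (vec i) (get (F2Mat.one 112) L p.1)) (vec (p.2.getD i 0))

theorem checkX : run 112 (slpQ ++ slpX) codes
    (fun L => cond (eqs 112 eqsX L) (pchk L) false) = true := by decide +kernel

/-! ### The environment -/

/-- the basis of `EJ` -/
noncomputable def lJ : List Cfsg.Spor.J4 := (runG slpQ gens).take 11

/-- the environment -/
noncomputable def LX : List Cfsg.Spor.J4 := runG slpX (runG slpQ gens)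

theorem map_lJ : lJ.map rho = qs := by
  unfold lJ qs mgens
  rw [List.map_take, runG_map]

theorem map_LX : LX.map rho = runG (slpQ ++ slpX) mgens := by
  unfold LX mgens
  rw [runG_append, runG_map, runG_map]

theorem sound : (∀ p ∈ eqsX, evG LX p.1 = evG LX p.2) ∧ ∀ p ∈ prm, ∀ i < 5,
    Matrix.vecMul (F2Mat.toVec 112 (vec i))
      ((rho (getG LX p.1) : GL (Fin 112) (ZMod 2)) : Matrix (Fin 112) (Fin 112) (ZMod 2)) =
      F2Mat.toVec 112 (vec (p.2.getD i 0)) := by
  obtain ⟨L', h', hk⟩ := run_sound codes_gens checkX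
  have h'' : List.Forall₂ (Codes 112) (LX.map rho) L' := by rw [map_LX]; exact h'
  rcases hb : eqs 112 eqsX L' with _ | _
  · rw [hb] at hk; exact absurd hk Bool.false_ne_true
  · rw [hb] at hk
    have hk' : pchk L' = true := hk
    constructor
    · intro p hp
      apply rho_injective
      rw [← evG_map, ← evG_map]
      exact eqs_sound h'' hb p hp
    · intro p hp i hi
      unfold pchk at hk'
      rw [List.all_eq_true] at hk'
      have h1 := hk' p hp
      rw [List.all_eq_true] at h1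
      have h2 := h1 i (List.mem_range.2 hi)
      have h3 := codes_get h'' p.1
      rw [getG_map] at h3
      unfold Codes at h3
      rw [h3, ← F2Mat.toVec_vmul, Nat.eq_of_beq_eq_true h2]

theorem lJ_length : lJ.length = 11 := rfl

/-- the elements of `EJ` -/
noncomputable def V (v : ℕ) : Cfsg.Spor.J4 := beta lJ v

theorem map_beta {G H : Type*} [Group G] [Group H] (f : G →* H) (l : List G) (v : ℕ) :
    f (beta l v) = beta (l.map f) v := by
  induction l generalizing v with
  | nil => simp [beta_nil]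
  | cons a l ih =>
    rw [List.map_cons, beta_cons, beta_cons, map_mul, ih]
    split_ifs
    · rfl
    · rw [map_one]

theorem rho_V (v : ℕ) : rho (V v) = beta qs v := by
  unfold V
  rw [map_beta, map_lJ]

theorem V_xor (v w : ℕ) : V (v ^^^ w) = V v * V w := by
  apply rho_injective
  rw [map_mul, rho_V, rho_V, rho_V, beta_xor qs hyp.sq hyp.comm]

theorem V_zero : V 0 = 1 := beta_zero _

theorem V_sq (v : ℕ) : V v * V v = 1 := by
  rw [← V_xor, Nat.xor_self, V_zero]

theorem V_inv (v : ℕ) : (V v)⁻¹ = V v := inv_eq_of_mul_eq_one_left (V_sq v)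

theorem V_comm (v w : ℕ) : V v * V w = V w * V v := by
  rw [← V_xor, ← V_xor, Nat.xor_comm]

theorem V_inj {v w : ℕ} (hv : v < 2048) (hw : w < 2048) (h : V v = V w) : v = w := by
  have h2 := congrArg rho h
  rw [rho_V, rho_V] at h2
  exact beta_inj hyp.sq hyp.comm hyp.ind (by rw [qs_len]; exact hv) (by rw [qs_len]; exact hw) h2

theorem mem_EJ {x : Cfsg.Spor.J4} : x ∈ Cfsg.Agent.J4.Invol.EJ ↔ ∃ v < 2048, x = V v := by
  rw [Cfsg.Agent.J4.Invol.mem_EJ_iff rho_injective]
  constructor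
  · intro h
    obtain ⟨v, hv, h1⟩ := exists_beta hyp.sq hyp.comm h
    rw [qs_len] at hv
    exact ⟨v, hv, rho_injective (by rw [h1, rho_V])⟩
  · rintro ⟨v, -, rfl⟩
    rw [rho_V]
    exact beta_mem Q qs (fun a ha => Subgroup.subset_closure ha) _

theorem V_mem (v : ℕ) : V v ∈ Cfsg.Agent.J4.Invol.EJ := by
  rw [Cfsg.Agent.J4.Invol.mem_EJ_iff rho_injective, rho_V]
  exact beta_mem Q qs (fun a ha => Subgroup.subset_closure ha) _

theorem conj_V {g : M24} {M : List ℕ} (h : IsMat (psi g) M) (v : ℕ) :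
    Cfsg.Agent.J4.Pres.phi g * V v * (Cfsg.Agent.J4.Pres.phi g)⁻¹ = V (lin M v) := by
  apply rho_injective
  rw [map_mul, map_mul, map_inv, rho_V, rho_V]
  exact isMat_apply h v

theorem getG_LX {k : ℕ} (hk : k < 11) : getG LX (13 + k) = lJ.getD k 1 := by
  have h := getG_runG slpX (runG slpQ gens) k
  exact h.trans (getG_take _ 11 k hk)

theorem evG_bb (v : ℕ) : evG LX (bb v) = V v := by
  have h := evG_bw LX lJ 13 v (by rw [lJ_length]; exact fun i hi => getG_LX hi)
  rwa [lJ_length] at h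

end Cfsg.Agent.H858.Data
end

-- part: H858/Elem
section
/-!
# Named elements of `J4`
-/

set_option autoImplicit false

open Cfsg

namespace Cfsg.Agent.H858.Elem

open Cfsg.Agent.Lib Cfsg.Agent.Lib.F2MatGroup
open Cfsg.Agent.J4.Rep112 Cfsg.Agent.J4.Pres Cfsg.Agent.J4.M24Hom Cfsg.Agent.J4.Nodes
open Cfsg.Agent.J4.Beta Cfsg.Agent.J4.Invol Cfsg.Agent.J4.Classes
open Cfsg.Agent.H858.VK Cfsg.Agent.H858.Data

/-! ### Words in the stabiliser of a trio -/

/-- letters -/
def letK : ℕ → M24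
  | 0 => XM
  | 1 => Cfsg.Agent.J4.TrioAll.gb
  | _ => Cfsg.Agent.J4.TrioAll.gb⁻¹

/-- words -/
def kw : List ℕ → M24
  | [] => 1
  | a :: l => letK a * kw l

/-- the word of `z` -/
def wz : List ℕ := [1, 0, 1, 0, 2, 0, 2, 0, 1, 0, 1, 0, 1]
/-- the word of `z⁻¹` -/
def wZ : List ℕ := [2, 0, 2, 0, 2, 0, 1, 0, 1, 0, 2, 0, 2]

/-- expansion of a letter -/
def exK : ℕ → List ℕ
  | 0 => [0]
  | 1 => wz
  | _ => wZ

/-- expansion of a word -/
def ex (l : List ℕ) : List ℕ := l.flatMap exK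

theorem wordG_wz : wordG wz = Cfsg.Agent.J4.TrioAll.gb := by
  simp [wz, wordG, letG0, letG1, letG2, Cfsg.Agent.J4.TrioAll.gb, pow_succ, mul_assoc]

theorem wordG_wZ : wordG wZ = Cfsg.Agent.J4.TrioAll.gb⁻¹ := by
  rw [← wordG_wz, eq_inv_iff_mul_eq_one, ← M24Norm.wordG_append]
  exact M24Norm.wordG_eq (m := []) (by decide +kernel)

theorem wordG_exK (a : ℕ) : wordG (exK a) = letK a := by
  rcases a with _ | _ | a
  · show wordG [0] = XM
    simp [wordG, letG0]
  · exact wordG_wz
  · exact wordG_wZ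

theorem kw_eq (l : List ℕ) : kw l = wordG (ex l) := by
  induction l with
  | nil => rfl
  | cons a l ih =>
    have e : ex (a :: l) = exK a ++ ex l := by
      unfold ex; rw [List.flatMap_cons]
    rw [e, M24Norm.wordG_append, wordG_exK, ← ih]
    rfl

theorem letK_mem (a : ℕ) : letK a ∈ Cfsg.Agent.J4.TrioAll.K := by
  rcases a with _ | _ | a
  · exact Subgroup.subset_closure (Or.inl rfl)
  · exact Subgroup.subset_closure (Or.inr rfl)
  · exact Subgroup.inv_mem _ (Subgroup.subset_closure (Or.inr rfl))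

theorem kw_mem (l : List ℕ) : kw l ∈ Cfsg.Agent.J4.TrioAll.K := by
  induction l with
  | nil => exact Subgroup.one_mem _
  | cons a l ih => exact Subgroup.mul_mem _ (letK_mem a) ih

theorem kw_append (l m : List ℕ) : kw (l ++ m) = kw l * kw m := by
  rw [kw_eq, kw_eq, kw_eq, ← M24Norm.wordG_append]
  congr 1
  unfold ex
  rw [List.flatMap_append]

/-- equal words -/
theorem kw_congr {l m : List ℕ} (h : Cfsg.Agent.J4.Nodes.wordP (ex l) =
    Cfsg.Agent.J4.Nodes.wordP (ex m)) : kw l = kw m := by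
  rw [kw_eq, kw_eq]
  exact M24Norm.wordG_eq h

theorem isMat_kw {l M : List ℕ} (h : mat (ex l) = M) : IsMat (psi (kw l)) M := by
  rw [← h, kw_eq]
  exact isMat_word _

/-- `t` commutes with the stabiliser of the trio -/
theorem t_comm {g : M24} (hg : g ∈ Cfsg.Agent.J4.TrioAll.K) : t * phi g = phi g * t := by
  refine (Cfsg.Agent.J4.TrioAll.commK phi t ?_ ?_ g hg).eq
  · show Commute t (phi XM)
    rw [phi_X]
    have h := all_rels.2.2.2.2.2.2.2.2.2.1
    exact (Commute.eq (by
      have h1 : t⁻¹ * x⁻¹ * t * x = 1 := h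
      have h2 : t * x = x * t := by
        have h3 : t⁻¹ * x⁻¹ * (t * x) = 1 := by rw [← mul_assoc]; exact h1
        have h4 : (x * t)⁻¹ * (t * x) = 1 := by rw [mul_inv_rev]; exact h3
        exact (inv_mul_eq_one.1 h4).symm
      exact h2))
  · have h := all_rels.2.2.2.2.2.2.2.2.1
    have e : phi Cfsg.Agent.J4.TrioAll.gb = y * x * y * (x * y⁻¹) ^ 2 * (x * y) ^ 3 := by
      unfold Cfsg.Agent.J4.TrioAll.gb
      simp only [map_mul, map_pow, map_inv, phi_X, phi_Y]
    rw [e]
    set u := y * x * y * (x * y⁻¹) ^ 2 * (x * y) ^ 3 with hu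
    have h1 : t⁻¹ * u⁻¹ * t * u = 1 := h
    have h3 : t⁻¹ * u⁻¹ * (t * u) = 1 := by rw [← mul_assoc]; exact h1
    have h4 : (u * t)⁻¹ * (t * u) = 1 := by rw [mul_inv_rev]; exact h3
    exact (inv_mul_eq_one.1 h4).symm

theorem kw_comm (l : List ℕ) : t * phi (kw l) = phi (kw l) * t := t_comm (kw_mem l)

theorem t_sq : t * t = 1 := by
  have h := all_rels.2.2.2.2.2.2.2.1
  rwa [pow_two] at h

/-! ### Named elements -/

/-- the `i`-th element of the environment -/
noncomputable abbrev g (i : ℕ) : Cfsg.Spor.J4 := getG LX i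

theorem g29 : g 29 = t := rfl
theorem g26 : g 26 = x := rfl
theorem g27 : g 27 = y := rfl
theorem g28 : g 28 = y⁻¹ := rfl

theorem eqX {p : List ℕ × List ℕ} (h : p ∈ eqsX) : evG LX p.1 = evG LX p.2 := sound.1 p h

theorem g12 : g 12 = phi Cfsg.Agent.J4.TrioAll.gb := by
  have e : phi Cfsg.Agent.J4.TrioAll.gb = y * x * y * (x * y⁻¹) ^ 2 * (x * y) ^ 3 := by
    unfold Cfsg.Agent.J4.TrioAll.gb
    simp only [map_mul, map_pow, map_inv, phi_X, phi_Y]
  have h : g 12 = g 27 * (g 26 * (g 27 * (g 26 * (g 28 * (g 26 * (g 28 * (g 26 * (g 27 *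
      (g 26 * (g 27 * (g 26 * (g 27 * 1)))))))))))) := rfl
  rw [e, h, g27, g26, g28]
  simp only [pow_succ, pow_zero, one_mul, mul_one, mul_assoc]

theorem g11 : g 11 = (phi Cfsg.Agent.J4.TrioAll.gb)⁻¹ := by
  have h := eqX (p := ([11, 12], [])) (by decide +kernel)
  simp only [evG_cons, evG_nil, mul_one] at h
  rw [← g12]
  exact eq_inv_of_mul_eq_one_left h

/-- number of a letter in the environment -/
def ixK : ℕ → ℕ
  | 0 => 26
  | 1 => 12
  | _ => 11

theorem phi_letK (a : ℕ) : phi (letK a) = g (ixK a) := by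
  rcases a with _ | _ | a
  · exact phi_X.trans g26.symm
  · exact g12.symm
  · exact (map_inv _ _).trans g11.symm

theorem phi_kw (l : List ℕ) : phi (kw l) = evG LX (l.map ixK) := by
  induction l with
  | nil => exact map_one _
  | cons a l ih =>
    rw [List.map_cons, evG_cons, ← ih, show getG LX (ixK a) = phi (letK a) from (phi_letK a).symm,
      ← map_mul]
    rfl

/-- the word of `s` -/
def ls : List ℕ := [0, 1, 0, 1, 0, 1]
/-- the word of `c` -/
def lc : List ℕ := [0, 1, 0, 1, 0, 1, 0, 1, 0, 1, 0, 1, 0, 1]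
/-- the word of `b` -/
def lb : List ℕ := [1, 0, 1, 0, 2, 0, 1, 0, 2, 0, 2, 0, 1, 1, 0, 1, 0, 1, 0, 1, 1]
/-- the word of `w` -/
def lw : List ℕ := [0, 2, 0, 1, 1, 0, 1, 0, 1, 1]
/-- the word of `e` -/
def le : List ℕ := [1, 0, 1, 1, 0, 1, 1, 0, 1, 1, 0, 1, 0, 1, 0, 2]

theorem g10 : g 10 = g 26 * g 12 := by
  have h : g 10 = g 26 * (g 12 * 1) := rfl
  rw [h, mul_one]

theorem g9 : g 9 = phi (kw ls) := by
  have h : g 9 = g 10 * (g 10 * (g 10 * 1)) := rfl
  rw [phi_kw, h, g10]
  simp only [ls, List.map_cons, List.map_nil, ixK, evG_cons, evG_nil, mul_assoc]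

theorem g8 : g 8 = phi (kw lc) := by
  have h : g 8 = g 10 * (g 10 * (g 10 * (g 10 * (g 10 * (g 10 * (g 10 * 1)))))) := rfl
  rw [phi_kw, h, g10]
  simp only [lc, List.map_cons, List.map_nil, ixK, evG_cons, evG_nil, mul_assoc]

theorem g7 : g 7 = phi (kw lb) := by
  rw [phi_kw]
  rfl

theorem g6 : g 6 = phi (kw lw) := by
  rw [phi_kw]
  rfl

theorem g5 : g 5 = V 1327 := by rw [← evG_bb]; rfl
theorem g4 : g 4 = V 1217 := by rw [← evG_bb]; rfl
theorem g1 : g 1 = V 1224 := by rw [← evG_bb]; rfl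

theorem g3 : g 3 = t * V 1217 * phi (kw lb) := by
  have h : g 3 = g 29 * (g 4 * (g 7 * 1)) := rfl
  rw [h, g29, g4, g7, mul_one, mul_assoc]

set_option maxRecDepth 10000 in
theorem g2 : g 2 = V 1327 * t * phi (kw lc) := by
  have h : g 2 = g 5 * (g 29 * (g 8 * 1)) := rfl
  rw [h, g29, g5, g8, mul_one, mul_assoc]

set_option maxRecDepth 10000 in
theorem g0 : g 0 = V 1224 * phi (kw lw) := by
  have h : g 0 = g 1 * (g 6 * 1) := rfl
  rw [h, g1, g6, mul_one]

theorem s_eq : M24Norm.s = kw ls := by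
  have h : M24Norm.ws = ex ls := rfl
  rw [kw_eq, ← h]
  rfl

theorem e_eq : M24Norm.e = kw le := by
  have h : M24Norm.we = ex le := rfl
  rw [kw_eq, ← h]
  rfl

/-- the element of order 7 -/
noncomputable def s : Cfsg.Spor.J4 := phi (kw ls)
/-- an element of order 3 -/
noncomputable def c : Cfsg.Spor.J4 := phi (kw lc)
/-- an involution -/
noncomputable def b : Cfsg.Spor.J4 := phi (kw lb)
/-- an element of order 3 -/
noncomputable def e : Cfsg.Spor.J4 := phi (kw le)
/-- the element of order 5 -/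
noncomputable def f : Cfsg.Spor.J4 := t * V 1217 * b
/-- an element of order 4 inducing an automorphism of order 4 of `⟨f⟩` -/
noncomputable def r : Cfsg.Spor.J4 := V 1327 * t * c
/-- an element of order 8 -/
noncomputable def j : Cfsg.Spor.J4 := V 1224 * phi (kw lw)

theorem f_eq : f = g 3 := g3.symm
theorem r_eq : r = g 2 := g2.symm
theorem j_eq : j = g 0 := g0.symm
theorem sg_eq : s = g 9 := g9.symm

theorem f_pow : f ^ 5 = 1 := by
  have h := eqX (p := ([3, 3, 3, 3, 3], [])) (by decide +kernel)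
  simp only [evG_cons, evG_nil, mul_one] at h
  rw [f_eq]
  simpa only [pow_succ, pow_zero, one_mul, mul_assoc] using h

theorem r_mul_f : r * f = f * f * r := by
  have h := eqX (p := ([2, 3], [3, 3, 2])) (by decide +kernel)
  simp only [evG_cons, evG_nil, mul_one] at h
  rw [f_eq, r_eq, mul_assoc]
  exact h

theorem r_pow : r ^ 4 = 1 := by
  have h := eqX (p := ([2, 2, 2, 2], [])) (by decide +kernel)
  simp only [evG_cons, evG_nil, mul_one] at h
  rw [r_eq]
  simpa only [pow_succ, pow_zero, one_mul, mul_assoc] using h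

theorem j_mul_f : j * f = f * j := by
  have h := eqX (p := ([0, 3], [3, 0])) (by decide +kernel)
  simp only [evG_cons, evG_nil, mul_one] at h
  rw [f_eq, j_eq]
  exact h

theorem j_pow : j ^ 4 = V 1394 := by
  have h := eqX (p := ([0, 0, 0, 0], bb 1394)) (by decide +kernel)
  rw [evG_bb] at h
  simp only [evG_cons, evG_nil, mul_one] at h
  rw [j_eq, ← h]
  simp only [pow_succ, pow_zero, one_mul, mul_assoc]

theorem sj_pow : (s ^ 3 * j) ^ 3 = 1 := by
  have h := eqX (p := ([9, 9, 9, 0, 9, 9, 9, 0, 9, 9, 9, 0], [])) (by decide +kernel)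
  simp only [evG_cons, evG_nil, mul_one] at h
  rw [sg_eq, j_eq]
  simpa only [pow_succ, pow_zero, one_mul, mul_assoc] using h

theorem r_mul_s : r * s = s * r := by
  have h := eqX (p := ([2, 9], [9, 2])) (by decide +kernel)
  simp only [evG_cons, evG_nil, mul_one] at h
  rw [r_eq, sg_eq]
  exact h

theorem f_mul_s : f * s = s * f := by
  have h := eqX (p := ([3, 9], [9, 3])) (by decide +kernel)
  simp only [evG_cons, evG_nil, mul_one] at h
  rw [f_eq, sg_eq]
  exact h

theorem evG_tu (u : ℕ) : evG LX (tu u) = t * V u * t := by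
  unfold tu
  rw [evG_cons, evG_append, evG_bb, Cfsg.Agent.J4.Lower.evG_single, mul_assoc]
  rfl

end Cfsg.Agent.H858.Elem
end

-- part: H858/Pent
section
/-!
# The action on five vectors, and subspaces of `2^11`
-/

set_option autoImplicit false

open Cfsg

namespace Cfsg.Agent.H858.Pent

open Cfsg.Agent.Lib Cfsg.Agent.Lib.F2MatGroup
open Cfsg.Agent.J4.Rep112 Cfsg.Agent.J4.Pres Cfsg.Agent.J4.M24Hom
open Cfsg.Agent.J4.Beta Cfsg.Agent.J4.Invol Cfsg.Agent.J4.Classes
open Cfsg.Agent.H858.VK Cfsg.Agent.H858.Data Cfsg.Agent.H858.Elem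

/-! ### Five vectors -/

/-- the five vectors -/
def pv (i : Fin 5) : Fin 112 → ZMod 2 := F2Mat.toVec 112 (vec i)

theorem pv_injective : Function.Injective pv := by
  intro i k h
  have h1 : ∀ i : Fin 5, vec i < 2 ^ 112 := by decide +kernel
  have h2 : vec i = vec k := F2Mat.toVec_inj (h1 i) (h1 k) h
  revert i k
  decide +kernel

/-- `x` acts on the five vectors as `σ` -/
def Act (x : Cfsg.Spor.J4) (σ : Equiv.Perm (Fin 5)) : Prop :=
  ∀ i, Matrix.vecMul (pv i)
    ((rho x : GL (Fin 112) (ZMod 2)) : Matrix (Fin 112) (Fin 112) (ZMod 2)) = pv (σ⁻¹ i)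

theorem Act.one : Act 1 1 := by
  intro i
  rw [map_one, Units.val_one, Matrix.vecMul_one]
  rfl

theorem Act.mul {x y : Cfsg.Spor.J4} {σ τ : Equiv.Perm (Fin 5)} (h : Act x σ) (h' : Act y τ) :
    Act (x * y) (σ * τ) := by
  intro i
  rw [map_mul, Units.val_mul, ← Matrix.vecMul_vecMul, h i, h' (σ⁻¹ i)]
  rfl

theorem Act.inv {x : Cfsg.Spor.J4} {σ : Equiv.Perm (Fin 5)} (h : Act x σ) : Act x⁻¹ σ⁻¹ := by
  intro i
  have h1 := h (σ i)
  have h2 : σ⁻¹ (σ i) = i := σ.symm_apply_apply i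
  rw [h2] at h1
  rw [← h1, Matrix.vecMul_vecMul, ← Units.val_mul, ← map_mul, mul_inv_cancel, map_one,
    Units.val_one, Matrix.vecMul_one, inv_inv]

theorem Act.unique {x : Cfsg.Spor.J4} {σ τ : Equiv.Perm (Fin 5)} (h : Act x σ) (h' : Act x τ) :
    σ = τ := by
  have h1 : σ⁻¹ = τ⁻¹ := by
    ext i
    have := pv_injective ((h i).symm.trans (h' i))
    rw [this]
  exact inv_injective h1

/-- the stabiliser of the set of the five vectors -/
def PS : Subgroup Cfsg.Spor.J4 where
  carrier := {x | ∃ σ, Act x σ}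
  one_mem' := ⟨1, Act.one⟩
  mul_mem' := by
    rintro x y ⟨σ, h⟩ ⟨τ, h'⟩
    exact ⟨σ * τ, h.mul h'⟩
  inv_mem' := by
    rintro x ⟨σ, h⟩
    exact ⟨σ⁻¹, h.inv⟩

/-- the action on the five vectors -/
noncomputable def p5 : PS →* Equiv.Perm (Fin 5) where
  toFun x := x.2.choose
  map_one' := (Exists.choose_spec (1 : PS).2).unique Act.one
  map_mul' x y := (Exists.choose_spec (x * y).2).unique
    ((Exists.choose_spec x.2).mul (Exists.choose_spec y.2))

theorem p5_eq {x : PS} {σ : Equiv.Perm (Fin 5)} (h : Act x σ) : p5 x = σ :=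
  (Exists.choose_spec x.2).unique h

theorem act_of_prm {k : ℕ} {l : List ℕ} (h : (k, l) ∈ prm) (σ : Equiv.Perm (Fin 5))
    (hσ : ∀ i : Fin 5, (σ i : ℕ) = l.getD i 0) (hσ2 : σ⁻¹ = σ) : Act (g k) σ := by
  intro i
  have h1 := sound.2 (k, l) h i i.2
  rw [hσ2]
  show _ = F2Mat.toVec 112 (vec (σ i))
  rw [hσ i]
  exact h1

open Equiv (swap)

theorem act_x : Act x (swap 2 3) := by
  rw [← g26]
  exact act_of_prm (l := [0, 1, 3, 2, 4]) (by decide) _ (by decide) (by decide)

theorem act_z : Act (phi Cfsg.Agent.J4.TrioAll.gb) (swap 3 4) := by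
  rw [← g12]
  exact act_of_prm (l := [0, 1, 2, 4, 3]) (by decide) _ (by decide) (by decide)

theorem act_t : Act t (swap 0 1) := by
  rw [← g29]
  exact act_of_prm (l := [1, 0, 2, 3, 4]) (by decide) _ (by decide) (by decide)

/-- the permutations of the letters of words in the stabiliser of a trio -/
def pK : ℕ → Equiv.Perm (Fin 5)
  | 0 => swap 2 3
  | 1 => swap 3 4
  | _ => swap 3 4

/-- the permutation of a word -/
def pkw : List ℕ → Equiv.Perm (Fin 5)
  | [] => 1
  | a :: l => pK a * pkw l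

theorem act_kw (l : List ℕ) : Act (phi (kw l)) (pkw l) := by
  induction l with
  | nil =>
    have h : phi (kw []) = 1 := map_one _
    rw [h]; exact Act.one
  | cons a l ih =>
    have h : phi (kw (a :: l)) = phi (letK a) * phi (kw l) := map_mul _ _ _
    rw [h]
    refine Act.mul ?_ ih
    rcases a with _ | _ | a
    · have h1 : phi (letK 0) = x := phi_X
      rw [h1]; exact act_x
    · exact act_z
    · have h1 : phi (letK (a + 1 + 1)) = (phi Cfsg.Agent.J4.TrioAll.gb)⁻¹ := map_inv _ _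
      rw [h1]
      exact act_z.inv

/-- the permutations of the basis of the group `2^11` -/
def lP : List (Equiv.Perm (Fin 5)) := [1, swap 1 2 * swap 3 4, swap 1 4 * swap 2 3,
  swap 1 3 * swap 2 4, swap 1 4 * swap 2 3, swap 1 2 * swap 3 4, swap 1 4 * swap 2 3,
  swap 1 3 * swap 2 4, swap 1 4 * swap 2 3, swap 1 4 * swap 2 3, swap 1 4 * swap 2 3]

/-- the lists of images -/
def lI : List (List ℕ) := [[0, 1, 2, 3, 4], [0, 2, 1, 4, 3], [0, 4, 3, 2, 1], [0, 3, 4, 1, 2],
  [0, 4, 3, 2, 1], [0, 2, 1, 4, 3], [0, 4, 3, 2, 1], [0, 3, 4, 1, 2], [0, 4, 3, 2, 1],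
  [0, 4, 3, 2, 1], [0, 4, 3, 2, 1]]

theorem act_lJ (k : ℕ) (hk : k < 11) : Act (lJ.getD k 1) (lP.getD k 1) := by
  rw [← getG_LX hk]
  have h1 : ∀ k < 11, (13 + k, lI.getD k []) ∈ prm := by decide
  have h2 : ∀ k < 11, ∀ i : Fin 5, (lP.getD k 1 i : ℕ) = (lI.getD k []).getD i 0 := by decide
  have h3 : ∀ k < 11, (lP.getD k 1)⁻¹ = lP.getD k 1 := by decide
  exact act_of_prm (h1 k hk) _ (h2 k hk) (h3 k hk)

theorem act_beta {l : List Cfsg.Spor.J4} {m : List (Equiv.Perm (Fin 5))}
    (h : List.Forall₂ Act l m) (v : ℕ) : Act (beta l v) (beta m v) := by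
  induction h generalizing v with
  | nil => exact Act.one
  | cons h1 _ ih =>
    rw [beta_cons, beta_cons]
    refine Act.mul ?_ (ih _)
    split_ifs
    · exact h1
    · exact Act.one

theorem act_V (v : ℕ) : Act (V v) (beta lP v) := by
  apply act_beta
  rw [List.forall₂_iff_get]
  refine ⟨rfl, ?_⟩
  intro k h1 h2
  have h3 := act_lJ k h1
  rw [List.getD_eq_getElem?_getD, List.getElem?_eq_getElem h1, Option.getD_some,
    List.getD_eq_getElem?_getD, List.getElem?_eq_getElem h2, Option.getD_some] at h3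
  exact h3

/-! ### Subspaces -/

theorem lin_xor (A : List ℕ) (v w : ℕ) : lin A (v ^^^ w) = lin A v ^^^ lin A w := by
  induction A generalizing v w with
  | nil => simp [lin_nil]
  | cons a A ih =>
    rw [lin_cons, lin_cons, lin_cons, xor_div_two, ih, xor_mod_two]
    by_cases h1 : v % 2 = 1 <;> by_cases h2 : w % 2 = 1
    · have h3 : ¬ (v % 2 + w % 2) % 2 = 1 := by omega
      rw [if_pos h1, if_pos h2, if_neg h3]
      rw [Nat.xor_comm a (lin A (w / 2)), ← Nat.xor_assoc, Nat.xor_assoc a, Nat.xor_comm a,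
        Nat.xor_assoc, Nat.xor_self, Nat.xor_zero]
    · have h3 : (v % 2 + w % 2) % 2 = 1 := by omega
      rw [if_pos h1, if_neg h2, if_pos h3, Nat.xor_assoc]
    · have h3 : (v % 2 + w % 2) % 2 = 1 := by omega
      rw [if_neg h1, if_pos h2, if_pos h3, ← Nat.xor_assoc, ← Nat.xor_assoc,
        Nat.xor_comm a]
    · have h3 : ¬ (v % 2 + w % 2) % 2 = 1 := by omega
      rw [if_neg h1, if_neg h2, if_neg h3]

theorem lin_zero (A : List ℕ) : lin A 0 = 0 := by
  have h := lin_xor A 0 0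
  rw [Nat.xor_self, Nat.xor_self] at h
  exact h

/-- the subgroup spanned by the vectors of a list -/
noncomputable def span (A : List ℕ) : Subgroup Cfsg.Spor.J4 where
  carrier := {x | ∃ u, x = V (lin A u)}
  one_mem' := ⟨0, by rw [lin_zero, V_zero]⟩
  mul_mem' := by
    rintro _ _ ⟨u, rfl⟩ ⟨v, rfl⟩
    exact ⟨u ^^^ v, by rw [lin_xor, V_xor]⟩
  inv_mem' := by
    rintro _ ⟨u, rfl⟩
    exact ⟨u, by rw [V_inv]⟩

theorem mem_span {A : List ℕ} {x : Cfsg.Spor.J4} : x ∈ span A ↔ ∃ u, x = V (lin A u) := Iff.rfl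

theorem lin_mod (A : List ℕ) (u : ℕ) : lin A (u % 2 ^ A.length) = lin A u := by
  induction A generalizing u with
  | nil => rfl
  | cons a A ih =>
    have h1 : u % 2 ^ (a :: A).length % 2 = u % 2 := by
      rw [List.length_cons, pow_succ]
      exact Nat.mod_mod_of_dvd _ ⟨2 ^ A.length, by ring⟩
    have h2 : u % 2 ^ (a :: A).length / 2 = (u / 2) % 2 ^ A.length := by
      rw [List.length_cons, pow_succ, mul_comm, Nat.mod_mul_right_div_self]
    rw [lin_cons, lin_cons, h1, h2, ih]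

theorem span_le {A : List ℕ} {S : Subgroup Cfsg.Spor.J4} (h : ∀ a ∈ A, V a ∈ S) :
    span A ≤ S := by
  rintro _ ⟨u, rfl⟩
  induction A generalizing u with
  | nil => rw [lin_nil, V_zero]; exact S.one_mem
  | cons a A ih =>
    have ih' := ih (fun b hb => h b (List.mem_cons_of_mem _ hb)) (u / 2)
    rw [lin_cons]
    split_ifs
    · rw [V_xor]; exact S.mul_mem (h a (List.mem_cons_self ..)) ih'
    · exact ih'

theorem mem_span_of {A : List ℕ} {a : ℕ} (u : ℕ) (h : lin A u = a) : V a ∈ span A :=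
  ⟨u, by rw [h]⟩

theorem V_mem_span {A : List ℕ} {a : ℕ} (h : a ∈ A) : V a ∈ span A := by
  induction A with
  | nil => simp at h
  | cons b A ih =>
    rcases List.mem_cons.1 h with rfl | h
    · refine ⟨1, ?_⟩
      rw [lin_cons]
      have : (1 : ℕ) / 2 = 0 := rfl
      rw [this, lin_zero]
      simp
    · obtain ⟨u, hu⟩ := ih h
      refine ⟨2 * u, ?_⟩
      rw [lin_cons, if_neg (by omega), Nat.mul_div_cancel_left _ (by norm_num), ← hu]

theorem card_span {A : List ℕ} (hlt : ∀ a ∈ A, a < 2048)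
    (h : ∀ u < 2 ^ A.length, lin A u = 0 → u = 0) : Nat.card (span A) = 2 ^ A.length := by
  have hbij : Function.Bijective (fun u : Fin (2 ^ A.length) =>
      (⟨V (lin A u), ⟨u, rfl⟩⟩ : span A)) := by
    constructor
    · intro u v huv
      have h1 : V (lin A u) = V (lin A v) := congrArg Subtype.val huv
      have h2 := V_inj (lin_lt hlt _) (lin_lt hlt _) h1
      have h3 : lin A ((u : ℕ) ^^^ v) = 0 := by rw [lin_xor, h2, Nat.xor_self]
      have h4 := h _ (Nat.xor_lt_two_pow u.2 v.2) h3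
      exact Fin.ext (Nat.xor_eq_zero_iff.mp h4)
    · rintro ⟨_, u, rfl⟩
      refine ⟨⟨u % 2 ^ A.length, Nat.mod_lt _ (Nat.two_pow_pos _)⟩, ?_⟩
      apply Subtype.ext
      show V (lin A (u % 2 ^ A.length)) = V (lin A u)
      rw [lin_mod]
  rw [← Nat.card_congr (Equiv.ofBijective _ hbij), Nat.card_fin]

/-- a conjugation maps the span into itself if it does so on a basis -/
theorem conj_span {A : List ℕ} {x : Cfsg.Spor.J4} (h : ∀ a ∈ A, x * V a * x⁻¹ ∈ span A) :
    x ∈ Subgroup.normalizer (span A : Set Cfsg.Spor.J4) := by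
  have h1 : (span A).map (MulAut.conj x).toMonoidHom ≤ span A := by
    rw [Subgroup.map_le_iff_le_comap]
    exact span_le h
  have h2 : (span A).map (MulAut.conj x).toMonoidHom = span A :=
    Subgroup.eq_of_le_of_card_ge h1
      (Nat.card_congr ((span A).equivMapOfInjective (MulAut.conj x).toMonoidHom
        (MulAut.conj x).injective).toEquiv).le
  rw [Subgroup.mem_normalizer_iff]
  intro y
  constructor
  · intro hy
    rw [← h2]
    exact ⟨y, hy, rfl⟩
  · intro hy
    rw [← h2] at hy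
    obtain ⟨z, hz, hzy⟩ := hy
    have h5 : x * z * x⁻¹ = x * y * x⁻¹ := hzy
    have h6 : z = y := mul_left_cancel (mul_right_cancel h5)
    exact h6 ▸ hz

end Cfsg.Agent.H858.Pent
end

-- part: H858/Loc7
section
/-!
# The centralizer of an element of order 7 of `J4`
-/

set_option autoImplicit false

open Cfsg

namespace Cfsg.Agent.H858.Loc7

open Cfsg.Agent.Lib.F2MatGroup
open Cfsg.Agent.J4.Rep112 Cfsg.Agent.J4.Pres Cfsg.Agent.J4.M24Hom
open Cfsg.Agent.J4.Beta Cfsg.Agent.J4.Classes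
open Cfsg.Agent.H858.VK Cfsg.Agent.H858.Data Cfsg.Agent.H858.Elem Cfsg.Agent.H858.Pent
open Cfsg.Agent.H858.Norm57 Cfsg.Agent.H858.Abs Cfsg.Agent.StdL2.G23Aut

/-! ### The group `Z` of order 8 -/

/-- the elementary abelian group of order 8 -/
noncomputable def Z : Subgroup Cfsg.Spor.J4 := span zl

theorem card_Z : Nat.card Z = 8 := by
  have h := card_span (A := zl) (by decide) (by decide +kernel)
  exact h

theorem oct_Z : Oct Z := ⟨card_Z, by
  rintro _ ⟨u, rfl⟩
  exact V_sq _⟩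

theorem V_mem_Z {a : ℕ} (u : ℕ) (h : lin zl u = a) : V a ∈ Z := mem_span_of u h

theorem mem_Z_iff {x : Cfsg.Spor.J4} (hx : ∀ a ∈ zl, x * V a = V a * x) :
    x ∈ Subgroup.centralizer (Z : Set Cfsg.Spor.J4) := by
  have h : Z ≤ Subgroup.centralizer {x} := span_le (fun a ha => by
    rw [Subgroup.mem_centralizer_iff]
    rintro _ rfl
    exact hx a ha)
  rw [Subgroup.mem_centralizer_iff]
  intro z hz
  exact ((Subgroup.mem_centralizer_iff.1 (h hz)) x rfl).symm

/-- `t` centralises `Z` -/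
theorem t_cent : t ∈ Subgroup.centralizer (Z : Set Cfsg.Spor.J4) := by
  apply mem_Z_iff
  intro a ha
  have h0 : ∀ a ∈ zl, (tu a, bb a) ∈ eqsX := by decide +kernel
  have h := eqX (h0 a ha)
  have h1 : evG LX (tu a) = t * V a * t := evG_tu a
  have h2 : t * V a * t = V a := by
    rw [← h1, ← evG_bb a]
    exact h
  calc t * V a = t * V a * (t * t) := by rw [t_sq, mul_one]
    _ = t * V a * t * t := by rw [mul_assoc, mul_assoc, mul_assoc]
    _ = V a * t := by rw [h2]

/-- the matrix of `b` -/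
def mb : List ℕ := [686, 1955, 1512, 1928, 49, 655, 162, 1388, 1603, 545, 1678]
/-- the matrix of `c` -/
def mc : List ℕ := [1210, 1625, 1017, 99, 1588, 650, 167, 1388, 1965, 560, 159]
/-- the matrix of `w` -/
def mw : List ℕ := [1349, 112, 683, 1759, 1215, 138, 658, 691, 1345, 1807, 1764]
/-- the matrix of `e` -/
def me : List ℕ := [673, 1777, 1169, 1748, 62, 1188, 605, 2022, 362, 835, 565]

theorem conj_kw {l M : List ℕ} (h : mat (ex l) = M) (v : ℕ) :
    phi (kw l) * V v * (phi (kw l))⁻¹ = V (lin M v) := conj_V (isMat_kw h) v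

theorem conj_s (v : ℕ) : s * V v * s⁻¹ = V (lin ms v) :=
  conj_kw (l := ls) (by decide +kernel) v
theorem conj_b (v : ℕ) : b * V v * b⁻¹ = V (lin mb v) :=
  conj_kw (l := lb) (by decide +kernel) v
theorem conj_c (v : ℕ) : c * V v * c⁻¹ = V (lin mc v) :=
  conj_kw (l := lc) (by decide +kernel) v
theorem conj_w (v : ℕ) : phi (kw lw) * V v * (phi (kw lw))⁻¹ = V (lin mw v) :=
  conj_kw (l := lw) (by decide +kernel) v
theorem conj_e (v : ℕ) : e * V v * e⁻¹ = V (lin me v) :=
  conj_kw (l := le) (by decide +kernel) v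

theorem V_cent (v : ℕ) : V v ∈ Subgroup.centralizer (Z : Set Cfsg.Spor.J4) :=
  mem_Z_iff (fun a _ => V_comm v a)

theorem b_cent : b ∈ Subgroup.centralizer (Z : Set Cfsg.Spor.J4) := by
  apply mem_Z_iff
  intro a ha
  have h1 : ∀ a ∈ zl, lin mb a = a := by decide +kernel
  have h := conj_b a
  rw [h1 a ha] at h
  exact mul_inv_eq_iff_eq_mul.1 h

theorem f_cent : f ∈ Subgroup.centralizer (Z : Set Cfsg.Spor.J4) :=
  Subgroup.mul_mem _ (Subgroup.mul_mem _ t_cent (V_cent _)) b_cent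

/-- the symmetric group of degree 5 -/
noncomputable def I0 : Subgroup Cfsg.Spor.J4 := Subgroup.closure {f, t}

theorem I0_le_cent : I0 ≤ Subgroup.centralizer (Z : Set Cfsg.Spor.J4) := by
  unfold I0
  rw [Subgroup.closure_le]
  rintro _ (rfl | rfl)
  · exact f_cent
  · exact t_cent

theorem act_f : Act f (Equiv.swap 0 1 * beta lP 1217 * pkw lb) :=
  (act_t.mul (act_V 1217)).mul (act_kw lb)

/-- the permutation of `f` -/
def σf : Equiv.Perm (Fin 5) := Equiv.swap 0 1 * beta lP 1217 * pkw lb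

theorem σf_cycle : σf.IsCycle := by
  have : Fact (Nat.Prime 5) := ⟨by norm_num⟩
  apply Equiv.Perm.isCycle_of_prime_order'' (by decide)
  rw [Fintype.card_fin]
  exact orderOf_eq_prime (by decide +kernel) (by decide +kernel)

theorem σf_support : σf.support = Finset.univ := by decide +kernel

theorem closure_perm : Subgroup.closure {σf, Equiv.swap 0 1} = (⊤ : Subgroup (Equiv.Perm (Fin 5))) :=
  Equiv.Perm.closure_prime_cycle_swap (by decide) σf_cycle σf_support ⟨0, 1, by decide, rfl⟩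

theorem I0_le : I0 ≤ PS := by
  unfold I0
  rw [Subgroup.closure_le]
  rintro _ (rfl | rfl)
  · exact ⟨_, act_f⟩
  · exact ⟨_, act_t⟩

/-- the map onto the symmetric group -/
noncomputable def pI : I0 →* Equiv.Perm (Fin 5) := p5.comp (Subgroup.inclusion I0_le)

theorem f_mem : f ∈ I0 := Subgroup.subset_closure (Or.inl rfl)
theorem t_mem : t ∈ I0 := Subgroup.subset_closure (Or.inr rfl)

theorem pI_surjective : Function.Surjective pI := by
  rw [← MonoidHom.range_eq_top, eq_top_iff, ← closure_perm, Subgroup.closure_le]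
  rintro _ (rfl | rfl)
  · exact ⟨⟨f, f_mem⟩, p5_eq act_f⟩
  · exact ⟨⟨t, t_mem⟩, p5_eq act_t⟩

theorem dvd_card_I0 : 120 ∣ Nat.card I0 := by
  have h := Subgroup.card_range_dvd pI
  rw [MonoidHom.range_eq_top.2 pI_surjective, Subgroup.card_top, Nat.card_eq_fintype_card,
    Fintype.card_perm, Fintype.card_fin] at h
  exact h

theorem t_mul_s : t * s = s * t := kw_comm ls

/-- the subgroup of order 7 -/
theorem S7_eq' : S7 = Subgroup.zpowers s := by
  rw [S7_eq, s_eq]
  rfl

theorem I0_le_C : I0 ≤ Subgroup.centralizer (S7 : Set Cfsg.Spor.J4) := by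
  rw [S7_eq', NormC.centralizer_zpowers]
  unfold I0
  rw [Subgroup.closure_le]
  rintro _ (rfl | rfl)
  · rw [SetLike.mem_coe, Subgroup.mem_centralizer_iff]
    rintro _ rfl
    exact f_mul_s.symm
  · rw [SetLike.mem_coe, Subgroup.mem_centralizer_iff]
    rintro _ rfl
    exact t_mul_s.symm

theorem s_notMem : s ∉ Subgroup.centralizer (Z : Set Cfsg.Spor.J4) := by
  intro h
  rw [Subgroup.mem_centralizer_iff] at h
  have h1 := h (V 165) (V_mem_Z 1 (by decide))
  have h2 := conj_s 165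
  rw [← h1, mul_inv_cancel_right] at h2
  have h3 := V_inj (by norm_num) (lin_lt (by decide) 165) h2
  revert h3
  decide

theorem s_pow : s ^ 7 = 1 := by
  have h := M24Norm.s_pow
  rw [s_eq] at h
  unfold s
  rw [← map_pow, h, map_one]

theorem S7_inf : S7 ⊓ I0 = ⊥ := by
  have : Fact (Nat.Prime 7) := ⟨by norm_num⟩
  have h1 : Nat.card (S7 ⊓ I0 : Subgroup Cfsg.Spor.J4) ∣ 7 := by
    rw [← card_S7]
    exact Subgroup.card_dvd_of_le inf_le_left
  rcases (Nat.dvd_prime (by norm_num)).1 h1 with h | h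
  · exact Subgroup.card_eq_one.1 h
  · exfalso
    have h2 : S7 ⊓ I0 = S7 := Subgroup.eq_of_le_of_card_ge inf_le_left (by rw [h, card_S7])
    have h3 : s ∈ S7 := by rw [S7_eq']; exact Subgroup.mem_zpowers s
    rw [← h2] at h3
    exact s_notMem (I0_le_cent (Subgroup.mem_inf.1 h3).2)

theorem e_mul_s : e * s = s * s * e := by
  have h := M24Norm.e_mul_s
  rw [s_eq, e_eq] at h
  unfold e s
  rw [← map_mul, h, map_mul, map_mul]

theorem e_pow : e ^ 3 = 1 := by
  have h := M24Norm.e_pow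
  rw [e_eq] at h
  unfold e
  rw [← map_pow, h, map_one]

theorem s_ne : s ≠ 1 := by
  intro h
  apply s_notMem
  rw [h]
  exact Subgroup.one_mem _

theorem e_mem : e ∈ Subgroup.normalizer (S7 : Set Cfsg.Spor.J4) := by
  rw [S7_eq']
  exact NormC.mem_normalizer_zpowers (k := 2) (by rw [e_mul_s, pow_two]; group)

theorem e_notMem : e ∉ Subgroup.centralizer (S7 : Set Cfsg.Spor.J4) := by
  rw [S7_eq', NormC.centralizer_zpowers, Subgroup.mem_centralizer_iff]
  intro h
  have h1 := h s rfl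
  have h2 := e_mul_s
  rw [← h1] at h2
  have h3 : s * (1 : Cfsg.Spor.J4) = s * s := by
    rw [mul_one]
    exact mul_right_cancel h2
  exact s_ne (mul_left_cancel h3).symm

/-- the centralizer of an element of order 7 has order 840 -/
theorem card_C : Nat.card (Subgroup.centralizer (S7 : Set Cfsg.Spor.J4)) = 840 := by
  have : Fact (Nat.Prime 3) := ⟨by norm_num⟩
  obtain ⟨k, hk, h1⟩ := NormC.exists_card_normalizer_prime (by norm_num) card_S7
  rw [card_normalizer_S7] at h1
  have h2 := mul_card_centralizer_dvd (p := 3) (n := 0) e_mem (by simpa using e_pow)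
    (by simpa using e_notMem)
  rw [card_normalizer_S7] at h2
  have h3 : 120 ∣ Nat.card (Subgroup.centralizer (S7 : Set Cfsg.Spor.J4)) :=
    dvd_card_I0.trans (Subgroup.card_dvd_of_le I0_le_C)
  set C := Nat.card (Subgroup.centralizer (S7 : Set Cfsg.Spor.J4)) with hC
  have hk6 : k ≤ 6 := Nat.le_of_dvd (by norm_num) hk
  obtain ⟨m, hm⟩ := h3
  obtain ⟨n, hn⟩ := h2
  have h4 : k * m = 21 := by nlinarith
  have h5 : 3 ∣ k := by
    have h6 : k * C = 3 * (C * n) := by rw [← h1, hn]; ring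
    have h7 : 0 < C := Nat.card_pos
    have h8 : k = 3 * n := by
      apply Nat.eq_of_mul_eq_mul_right h7
      rw [h6]; ring
    exact ⟨n, h8⟩
  have h6 : k = 3 := by
    obtain ⟨l, rfl⟩ := h5
    have h7 : l * m = 7 := by nlinarith
    have h8 : l ∣ 7 := ⟨m, h7.symm⟩
    rcases (Nat.dvd_prime (by norm_num)).1 h8 with h | h
    · rw [h]
    · omega
  rw [h6] at h1
  omega

theorem S7_le_C : S7 ≤ Subgroup.centralizer (S7 : Set Cfsg.Spor.J4) := by
  rw [S7_eq', NormC.centralizer_zpowers, Subgroup.zpowers_le, Subgroup.mem_centralizer_iff]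
  rintro _ rfl; rfl

theorem card_I0 : Nat.card I0 = 120 := by
  have h1 := card_mul_le S7_le_C I0_le_C S7_inf
  rw [card_C, card_S7] at h1
  obtain ⟨m, hm⟩ := dvd_card_I0
  have h2 : 0 < Nat.card I0 := Nat.card_pos
  omega

theorem equiv_I0 : Nonempty (I0 ≃* Equiv.Perm (Fin 5)) := by
  refine ⟨MulEquiv.ofBijective pI ?_⟩
  rw [Nat.bijective_iff_surjective_and_card]
  refine ⟨pI_surjective, ?_⟩
  rw [card_I0, Nat.card_eq_fintype_card, Fintype.card_perm, Fintype.card_fin]
  rfl

/-- **the centralizer of an element of order 7 of `J4`** -/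
theorem directProduct : IsInternalDirectProduct S7 I0
    (Subgroup.centralizer (S7 : Set Cfsg.Spor.J4)) := by
  refine isInternalDirectProduct S7_le_C I0_le_C ?_ S7_inf ?_
  · intro a ha b hb
    exact Subgroup.mem_centralizer_iff.1 (I0_le_C hb) a ha
  · rw [card_C, card_S7, card_I0]

end Cfsg.Agent.H858.Loc7
end
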