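import Cfsg.Agent.J4Type.Top
import Cfsg.Agent.H856.ToHyp
import Cfsg.Agent.H858.Loc7
set_option linter.all false

/-!
# Transport to groups of Janko-four type
-/

set_option autoImplicit false

open Cfsg

namespace Cfsg.Agent.H858.Trans

open Cfsg.Agent.H858.Abs

/-- a finite simple group of Janko-four type is isomorphic to the presented group -/
theorem exists_iso {G : Type*} [Group G] [Finite G] [IsSimpleGroup G] {z : G}
    (h : IsOfJankoFourTypeAt z) : Nonempty (Cfsg.Spor.J4 ≃* G) := by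
  obtain ⟨P, hP⟩ := h
  obtain ⟨Q, N, M, H, -, -⟩ := Cfsg.Agent.H856.ToHyp.exists_hyp hP
  obtain ⟨f, hf⟩ := Cfsg.Agent.J4Type.Top.main H
  exact ⟨MulEquiv.ofBijective f hf⟩

/-- every subgroup of order `p` is the image of a given one -/
theorem exists_iso_prime {G : Type*} [Group G] [Finite G] [IsSimpleGroup G] {z : G}
    (h : IsOfJankoFourTypeAt z) {p : ℕ} [Fact p.Prime] (hpp : ¬ p * p ∣ 86775571046077562880)
    {P : Subgroup Cfsg.Spor.J4} (hP : Nat.card P = p) {P' : Subgroup G} (hP' : Nat.card P' = p) :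
    ∃ f : Cfsg.Spor.J4 ≃* G, P.map f.toMonoidHom = P' := by
  obtain ⟨f⟩ := exists_iso h
  have h1 : Nat.card (P.map f.toMonoidHom) = p := by rw [card_map_equiv, hP]
  have h2 : Nat.card G = 86775571046077562880 := by
    rw [← Nat.card_congr f.toEquiv]; exact FixJ4.card_J4
  obtain ⟨g, hg⟩ := exists_conj_prime h1 hP' (by rwa [h2])
  refine ⟨f.trans (MulAut.conj g), ?_⟩
  rw [← hg, Subgroup.map_map]
  rfl

theorem card_G {G : Type*} [Group G] [Finite G] [IsSimpleGroup G] {z : G}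
    (h : IsOfJankoFourTypeAt z) : Nat.card G = 86775571046077562880 := by
  obtain ⟨f⟩ := exists_iso h
  rw [← Nat.card_congr f.toEquiv]; exact FixJ4.card_J4

theorem isInternalDirectProduct_map {A B : Type*} [Group A] [Group B] (f : A ≃* B)
    {S₁ S₂ S : Subgroup A} (h : IsInternalDirectProduct S₁ S₂ S) :
    IsInternalDirectProduct (S₁.map f.toMonoidHom) (S₂.map f.toMonoidHom) (S.map f.toMonoidHom) := by
  obtain ⟨h1, h2, h3, h4, h5⟩ := h
  refine ⟨Subgroup.map_mono h1, Subgroup.map_mono h2, ?_, ?_, ?_⟩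
  · rintro _ ⟨a, ha, rfl⟩ _ ⟨b, hb, rfl⟩
    rw [← map_mul, ← map_mul, h3 a ha b hb]
  · rw [← Subgroup.map_inf _ _ _ f.injective, h4, Subgroup.map_bot]
  · rw [← Subgroup.map_sup, h5]

end Cfsg.Agent.H858.Trans
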