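import Cfsg.Agent.H858.VK
set_option linter.all false

/-!
# The normalizers of the subgroups of order 5 and 7 of `J4`
-/

set_option autoImplicit false

open Cfsg

namespace Cfsg.Agent.H858.Norm57

open Cfsg.Agent.J4.Rep112 Cfsg.Agent.J4.Pres Cfsg.Agent.J4.M24Hom
open Cfsg.Agent.J4.Beta Cfsg.Agent.J4.Invol Cfsg.Agent.J4.Classes
open Cfsg.Agent.H858.Fix Cfsg.Agent.H858.FixJ4 Cfsg.Agent.H858.VK Cfsg.Agent.H858.NormC

/-- the matrix of `q` -/
def mq : List ℕ := [501, 286, 1180, 181, 333, 1261, 758, 1484, 811, 82, 49]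
/-- the matrix of `s` -/
def ms : List ℕ := [294, 1221, 220, 922, 1827, 875, 1655, 504, 649, 919, 616]

theorem isMat_q : IsMat (psi M24Norm.q) mq := by
  have h : mat M24Norm.wq = mq := by decide +kernel
  rw [← h]
  exact isMat_word _

theorem isMat_s : IsMat (psi M24Norm.s) ms := by
  have h : mat M24Norm.ws = ms := by decide +kernel
  rw [← h]
  exact isMat_word _

theorem card_EJ_cent_q :
    Nat.card (EJ ⊓ Subgroup.centralizer {phi M24Norm.q} : Subgroup Cfsg.Spor.J4) = 8 :=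
  card_EJ_cent _ mq isMat_q 8 (by decide +kernel) (by decide +kernel)

theorem card_EJ_cent_s :
    Nat.card (EJ ⊓ Subgroup.centralizer {phi M24Norm.s} : Subgroup Cfsg.Spor.J4) = 4 :=
  card_EJ_cent _ ms isMat_s 4 (by decide +kernel) (by decide +kernel)

/-- the subgroup of order 5 -/
noncomputable def Q5 : Subgroup Cfsg.Spor.J4 := M24Norm.Q.map phi
/-- the subgroup of order 7 -/
noncomputable def S7 : Subgroup Cfsg.Spor.J4 := M24Norm.S.map phi

theorem Q5_eq : Q5 = Subgroup.zpowers (phi M24Norm.q) := by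
  unfold Q5 M24Norm.Q
  rw [MonoidHom.map_zpowers]

theorem S7_eq : S7 = Subgroup.zpowers (phi M24Norm.s) := by
  unfold S7 M24Norm.S
  rw [MonoidHom.map_zpowers]

theorem card_Q5 : Nat.card Q5 = 5 := by
  unfold Q5
  rw [Subgroup.card_map_of_injective phi_injective, M24Norm.card_Q]

theorem card_S7 : Nat.card S7 = 7 := by
  unfold S7
  rw [Subgroup.card_map_of_injective phi_injective, M24Norm.card_S]

theorem Q5_le : Q5 ≤ B := by
  rintro _ ⟨m, _, rfl⟩
  exact Cfsg.Agent.J4.Upper.range_le ⟨m, rfl⟩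

theorem S7_le : S7 ≤ B := by
  rintro _ ⟨m, _, rfl⟩
  exact Cfsg.Agent.J4.Upper.range_le ⟨m, rfl⟩

theorem card_NB_Q5 : Nat.card (Subgroup.normalizer (Q5 : Set Cfsg.Spor.J4) ⊓ B :
    Subgroup Cfsg.Spor.J4) = 1920 := by
  have h := card_normalizer_inf phi_injective phi_norm inf_eq_one (B := B) (fun x => mem_B)
    M24Norm.Q
  have h2 : Subgroup.centralizer ((M24Norm.Q.map phi : Subgroup Cfsg.Spor.J4) :
      Set Cfsg.Spor.J4) = Subgroup.centralizer {phi M24Norm.q} := by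
    have h3 := Q5_eq
    unfold Q5 at h3
    rw [h3, centralizer_zpowers]
  rw [h2, card_EJ_cent_q, M24Norm.card_normalizer_Q] at h
  exact h

theorem card_NB_S7 : Nat.card (Subgroup.normalizer (S7 : Set Cfsg.Spor.J4) ⊓ B :
    Subgroup Cfsg.Spor.J4) = 504 := by
  have h := card_normalizer_inf phi_injective phi_norm inf_eq_one (B := B) (fun x => mem_B)
    M24Norm.S
  have h2 : Subgroup.centralizer ((M24Norm.S.map phi : Subgroup Cfsg.Spor.J4) :
      Set Cfsg.Spor.J4) = Subgroup.centralizer {phi M24Norm.s} := by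
    have h3 := S7_eq
    unfold S7 at h3
    rw [h3, centralizer_zpowers]
  rw [h2, card_EJ_cent_s, M24Norm.card_normalizer_S] at h
  exact h

/-! ### Fixed points -/

/-- possible numbers of fixed points -/
theorem fix_cases {p N : ℕ} [hp : Fact p.Prime] {P : Subgroup M24} (hP : Nat.card P = p)
    (hpp : ¬ p * p ∣ Nat.card M24) (hN : Nat.card (Subgroup.normalizer (P : Set M24)) = N)
    (i : Fin 20) :
    (fixSet (S i) P).ncard = 0 ∨ ∃ k, p ∣ k ∧ k ∣ so i ∧ (fixSet (S i) P).ncard * k = N ∧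
      (fixSet (S i) P).ncard ≡ Cfsg.Agent.J4.Upper1.ib i [MOD p] := by
  rcases Set.eq_empty_or_nonempty (fixSet (S i) P) with h | h
  · left
    rw [h, Set.ncard_empty]
  · right
    obtain ⟨g, h1, h2⟩ := exists_fix_mul (isPGroup_of_card hP) (not_dvd_index hP hpp) h
    refine ⟨_, ?_, ?_, h2.trans hN, ?_⟩
    · have h3 : P.map (MulAut.conj g).toMonoidHom ≤ Subgroup.normalizer
          ((P.map (MulAut.conj g).toMonoidHom : Subgroup M24) : Set M24) ⊓ S i :=
        le_inf Subgroup.le_normalizer h1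
      have h4 := Subgroup.card_dvd_of_le h3
      rwa [Subgroup.card_map_of_injective (MulAut.conj g).injective, hP] at h4
    · rw [← card_S]
      exact Subgroup.card_dvd_of_le inf_le_right
    · rw [← index_S]
      exact card_fix_modEq _ (isPGroup_of_card hP)

/-- bounds for the prime 5 -/
def b5 (i : ℕ) : ℕ := [1, 0, 0, 0, 0, 0, 0, 0, 0, 0, 0, 16, 0, 0, 0, 0, 0, 0, 12, 0].getD i 0

theorem b5_ok : ∀ i < 20, ∀ k < 241, (i ≠ 0 ∧ 5 ∣ k ∧ k ∣ so i ∧ k ∣ 240 ∧
    240 / k % 5 = Cfsg.Agent.J4.Upper1.ib i % 5) → 240 / k ≤ b5 i := by decide +kernel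

/-- bounds for the prime 7 -/
def b7 (i : ℕ) : ℕ := [1, 1, 0, 0, 0, 0, 0, 3, 0, 0, 0, 0, 0, 0, 0, 0, 0, 0, 0, 0].getD i 0

theorem b7_ok : ∀ i < 20, ∀ k < 127, (i ≠ 0 ∧ 7 ∣ k ∧ k ∣ so i ∧ k ∣ 126 ∧
    126 / k % 7 = Cfsg.Agent.J4.Upper1.ib i % 7) → 126 / k ≤ b7 i := by decide +kernel

theorem fix_zero (P : Subgroup M24) : (fixSet (S 0) P).ncard ≤ 1 := by
  have h1 : Nat.card (M24 ⧸ S 0) = 1 := index_S 0
  rw [← Nat.card_coe_set_eq, ← h1]
  exact Nat.card_le_card_of_injective (fun x => (x : M24 ⧸ S 0)) Subtype.val_injective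

/-- bound for the fixed points -/
theorem fix_le {p N : ℕ} [hp : Fact p.Prime] {P : Subgroup M24} (hP : Nat.card P = p)
    (hpp : ¬ p * p ∣ Nat.card M24) (hN : Nat.card (Subgroup.normalizer (P : Set M24)) = N)
    {b : ℕ → ℕ} (h0 : b 0 = 1)
    (hb : ∀ i < 20, ∀ k ≤ N, (i ≠ 0 ∧ p ∣ k ∧ k ∣ so i ∧ k ∣ N ∧
      N / k % p = Cfsg.Agent.J4.Upper1.ib i % p) → N / k ≤ b i) :
    (fixSet B (P.map phi)).ncard ≤ ∑ i ∈ Finset.range 20, b i := by
  have hN0 : 0 < N := hN ▸ Nat.card_pos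
  refine (card_fix_le P).trans ?_
  rw [Finset.sum_range]
  apply Finset.sum_le_sum
  intro i _
  by_cases hi : i = 0
  · subst hi
    rw [Fin.val_zero, h0]
    exact fix_zero P
  rcases fix_cases hP hpp hN i with h | ⟨k, h1, h2, h3, h4⟩
  · rw [h]; exact Nat.zero_le _
  · have hk : k ∣ N := ⟨_, by rw [mul_comm]; exact h3.symm⟩
    have hk0 : 0 < k := Nat.pos_of_dvd_of_pos hk hN0
    have hf : (fixSet (S i) P).ncard = N / k := (Nat.div_eq_of_eq_mul_left hk0 h3.symm).symm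
    rw [hf]
    apply hb i i.2 k (Nat.le_of_dvd hN0 hk)
    refine ⟨fun h => hi (Fin.ext h), h1, h2, hk, ?_⟩
    rw [← hf]; exact h4

theorem isPGroup_Q5 : IsPGroup 5 Q5 := isPGroup_of_card card_Q5
theorem isPGroup_S7 : IsPGroup 7 S7 := isPGroup_of_card card_S7

theorem not_dvd_Q5 : ¬ 5 ∣ Q5.index := not_dvd_index card_Q5 (by rw [card_J4]; norm_num)
theorem not_dvd_S7 : ¬ 7 ∣ S7.index := not_dvd_index card_S7 (by rw [card_J4]; norm_num)

/-- **the normalizer of a subgroup of order 7 of `J4` has order 2520** -/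
theorem card_normalizer_S7 :
    Nat.card (Subgroup.normalizer (S7 : Set Cfsg.Spor.J4)) = 2520 := by
  have : Fact (Nat.Prime 7) := ⟨by norm_num⟩
  have h1 := card_fix_mul S7_le isPGroup_S7 not_dvd_S7
  have h2 := card_fix_modEq B isPGroup_S7
  have h3 : (fixSet B S7).ncard ≤ ∑ i ∈ Finset.range 20, b7 i :=
    fix_le (p := 7) (N := 126) M24Norm.card_S (by rw [M24Norm.card_M24]; norm_num)
      M24Norm.card_normalizer_S rfl (fun i hi k hk => b7_ok i hi k (by omega))
  have h4 : ∑ i ∈ Finset.range 20, b7 i = 5 := by decide +kernel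
  rw [card_NB_S7] at h1
  rw [index_B] at h2
  rw [h4] at h3
  have h5 : (fixSet B S7).ncard % 7 = 5 :=
    (show (fixSet B S7).ncard % 7 = 173067389 % 7 from h2).trans (by norm_num)
  have h6 : (fixSet B S7).ncard = 5 := by
    clear h1 h2 h4
    omega
  rw [← h1, h6]

/-- the normalizer of a subgroup of order 5 of `J4` has order 26880 (if 7 divides it) -/
theorem card_normalizer_Q5_of (h7 : 7 ∣ Nat.card (Subgroup.normalizer (Q5 : Set Cfsg.Spor.J4))) :
    Nat.card (Subgroup.normalizer (Q5 : Set Cfsg.Spor.J4)) = 26880 := by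
  have : Fact (Nat.Prime 5) := ⟨by norm_num⟩
  have h1 := card_fix_mul Q5_le isPGroup_Q5 not_dvd_Q5
  have h2 := card_fix_modEq B isPGroup_Q5
  have h3 : (fixSet B Q5).ncard ≤ ∑ i ∈ Finset.range 20, b5 i :=
    fix_le (p := 5) (N := 240) M24Norm.card_Q (by rw [M24Norm.card_M24]; norm_num)
      M24Norm.card_normalizer_Q rfl (fun i hi k hk => b5_ok i hi k (by omega))
  have h4 : ∑ i ∈ Finset.range 20, b5 i = 29 := by decide +kernel
  rw [card_NB_Q5] at h1
  rw [index_B] at h2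
  rw [h4] at h3
  have h5 : (fixSet B Q5).ncard % 5 = 4 :=
    (show (fixSet B Q5).ncard % 5 = 173067389 % 5 from h2).trans (by norm_num)
  have h6 : 7 ∣ (fixSet B Q5).ncard := by
    rw [← h1] at h7
    exact ((Nat.Prime.dvd_mul (by norm_num)).1 h7).resolve_right (by norm_num)
  have h6 : (fixSet B Q5).ncard = 14 := by
    clear h1 h2 h4
    omega
  rw [← h1, h6]

end Cfsg.Agent.H858.Norm57
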