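import Cfsg.Agent.J4.TrioAll
import Cfsg.Agent.SporadicStructure.M24Frame
import Cfsg.Agent.H858.NormC
set_option linter.all false

/-!
# The normalizers of the subgroups of order 5 and 7 of `M24`
-/

set_option autoImplicit false

open Cfsg
open scoped Pointwise

namespace Cfsg.Agent.H858.M24Norm

open Cfsg.Agent.J4.M24Hom Cfsg.Agent.J4.Packed Cfsg.Agent.J4.Nodes
open Cfsg.Agent.SporadicA.GolayBase (fin mem_fin idx_lt pt_idx)
open Cfsg.Agent.SporadicStructure.M24Frame
open Cfsg.Agent.H858.NormC

instance finite_M24 : Finite M24 := Nat.finite_of_card_ne_zero (by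
  rw [Cfsg.Agent.SporadicA.M24Trans.card_M24]; norm_num)

theorem card_M24 : Nat.card M24 = 244823040 := Cfsg.Agent.SporadicA.M24Trans.card_M24

/-- words with equal values -/
theorem wordG_eq {l m : List ℕ} (h : wordP l = wordP m) : wordG l = wordG m :=
  rep_inj (rep_word l) (h ▸ rep_word m)

theorem wordG_append (l m : List ℕ) : wordG (l ++ m) = wordG l * wordG m := by
  induction l with
  | nil => simp [wordG]
  | cons a l ih => rw [List.cons_append, wordG, wordG, ih, mul_assoc]

/-- the word of `q` -/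
def wq : List ℕ := [1,0,1,0,1,0,2,0,2,0,1,0,1]
/-- the word of `r` -/
def wr : List ℕ := [0,2,0,1,0,2,0,1,0,2,0,1,0,1,0,1,0,1,0,1,0,1,0,1,0,2,0,2,0,2,0,1,0,1,0,1,0]
/-- the word of `c` -/
def wc : List ℕ := [0,1,0,1,0,1,0,1,0,1,0,1,0,2,0,2,0,2,0,2,0,1,0,1,0,1,0,2,0,2,0,2,0,2,0,2,0,2,0,2]

/-- an element of order 5 -/
def q : M24 := wordG wq
/-- an element of order 4 with `r q r⁻¹ = q ^ 2` -/
def r : M24 := wordG wr
/-- an element of order 3 commuting with `q` -/
def c : M24 := wordG wc

theorem r_mul_q : r * q = q * q * r := by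
  unfold r q
  rw [← wordG_append, ← wordG_append, ← wordG_append]
  exact wordG_eq (by decide +kernel)

theorem c_mul_q : c * q = q * c := by
  unfold c q
  rw [← wordG_append, ← wordG_append]
  exact wordG_eq (by decide +kernel)

theorem q_pow : q ^ 5 = 1 := by
  have h : wordG (wq ++ (wq ++ (wq ++ (wq ++ wq)))) = wordG [] := wordG_eq (by decide +kernel)
  simp only [wordG_append] at h
  change q * (q * (q * (q * q))) = 1 at h
  simpa [pow_succ, mul_assoc] using h

theorem r_pow : r ^ 4 = 1 := by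
  have h : wordG (wr ++ (wr ++ (wr ++ wr))) = wordG [] := wordG_eq (by decide +kernel)
  simp only [wordG_append] at h
  change r * (r * (r * r)) = 1 at h
  simpa [pow_succ, mul_assoc] using h

theorem c_pow : c ^ 3 = 1 := by
  have h : wordG (wc ++ (wc ++ wc)) = wordG [] := wordG_eq (by decide +kernel)
  simp only [wordG_append] at h
  change c * (c * c) = 1 at h
  simpa [pow_succ, mul_assoc] using h

theorem one_of_word {l : List ℕ} (i j : ℕ)
    (h : (wordG l : Equiv.Perm GolayPt) (pt i) = pt j) (hij : pt i ≠ pt j) : wordG l ≠ 1 := by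
  intro h1
  rw [h1] at h
  exact hij h

theorem q_ne : q ≠ 1 := one_of_word 0 15 (by decide +kernel) (by decide +kernel)

theorem c_ne : c ≠ 1 := by
  intro h
  have h1 : ∀ p, (wordG wc : Equiv.Perm GolayPt) p = p := fun p => by
    change (c : Equiv.Perm GolayPt) p = p
    rw [h]; rfl
  revert h1
  decide +kernel

theorem r_sq_ne : r ^ 2 ≠ 1 := by
  intro h
  have h0 : wordG (wr ++ wr) = 1 := by
    rw [wordG_append]; change r * r = 1; rw [← h, pow_two]
  have h1 : ∀ p, (wordG (wr ++ wr) : Equiv.Perm GolayPt) p = p := fun p => by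
    rw [h0]; rfl
  revert h1
  decide +kernel

theorem orderOf_q : orderOf q = 5 := by
  have : Fact (Nat.Prime 5) := ⟨by norm_num⟩
  exact orderOf_eq_prime q_pow q_ne

theorem orderOf_c : orderOf c = 3 := orderOf_eq_prime c_pow c_ne

theorem orderOf_r : orderOf r = 4 := by
  have : orderOf r = 2 ^ (1 + 1) := orderOf_eq_prime_pow (by simpa using r_sq_ne) (by simpa using r_pow)
  simpa using this

/-- bound for the centralizer of an element -/
theorem card_cent_le {g : M24} {a b : GolayPt} (A E : Finset GolayPt)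
    (hA : ∀ x : GolayPt, (g : Equiv.Perm GolayPt) x ≠ x → x ∈ A)
    (hE : ∀ x : GolayPt, (g : Equiv.Perm GolayPt) x = x → x ∈ E)
    (ha : (g : Equiv.Perm GolayPt) a ≠ a) (hb : (g : Equiv.Perm GolayPt) b = b)
    (hinj : ∀ d : M24, d * g = g * d → (d : Equiv.Perm GolayPt) a = a →
      (d : Equiv.Perm GolayPt) b = b → d = 1) :
    Nat.card (Subgroup.centralizer {g}) ≤ A.card * E.card := by
  have hc : ∀ d : Subgroup.centralizer {g}, (d : M24) * g = g * d := fun d =>
    (Subgroup.mem_centralizer_iff.1 d.2 g rfl).symm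
  have hc' : ∀ (d : Subgroup.centralizer {g}) (x : GolayPt),
      ((d : M24) : Equiv.Perm GolayPt) ((g : Equiv.Perm GolayPt) x) =
        (g : Equiv.Perm GolayPt) (((d : M24) : Equiv.Perm GolayPt) x) := by
    intro d x
    have h := congrArg (fun z : M24 => (z : Equiv.Perm GolayPt) x) (hc d)
    exact h
  let f : Subgroup.centralizer {g} → {x // x ∈ A} × {x // x ∈ E} := fun d =>
    (⟨((d : M24) : Equiv.Perm GolayPt) a, hA _ (by
        rw [← hc']
        exact fun h => ha (((d : M24) : Equiv.Perm GolayPt).injective h))⟩,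
      ⟨((d : M24) : Equiv.Perm GolayPt) b, hE _ (by rw [← hc', hb])⟩)
  have hf : Function.Injective f := by
    intro d e hde
    have h1 : ((d : M24) : Equiv.Perm GolayPt) a = ((e : M24) : Equiv.Perm GolayPt) a :=
      congrArg (fun z => (z.1 : GolayPt)) hde
    have h2 : ((d : M24) : Equiv.Perm GolayPt) b = ((e : M24) : Equiv.Perm GolayPt) b :=
      congrArg (fun z => (z.2 : GolayPt)) hde
    have h3 : (e : M24)⁻¹ * (d : M24) = 1 := by
      apply hinj
      · have h4 : (e : M24)⁻¹ * g = g * (e : M24)⁻¹ := by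
          have := hc e
          calc (e : M24)⁻¹ * g = (e : M24)⁻¹ * (g * e) * (e : M24)⁻¹ := by group
            _ = (e : M24)⁻¹ * (e * g) * (e : M24)⁻¹ := by rw [this]
            _ = g * (e : M24)⁻¹ := by group
        rw [mul_assoc, hc d, ← mul_assoc, h4, mul_assoc]
      · show ((e : M24)⁻¹ : Equiv.Perm GolayPt) (((d : M24) : Equiv.Perm GolayPt) a) = a
        rw [h1]
        exact Equiv.symm_apply_apply _ _
      · show ((e : M24)⁻¹ : Equiv.Perm GolayPt) (((d : M24) : Equiv.Perm GolayPt) b) = b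
        rw [h2]
        exact Equiv.symm_apply_apply _ _
    exact Subtype.ext (inv_mul_eq_one.1 h3).symm
  have h := Nat.card_le_card_of_injective f hf
  rwa [Nat.card_prod, Nat.card_eq_finsetCard, Nat.card_eq_finsetCard] at h

/-- commuting elements -/
theorem apply_comm {g d : M24} (h : d * g = g * d) (x : GolayPt) :
    (d : Equiv.Perm GolayPt) ((g : Equiv.Perm GolayPt) x) =
      (g : Equiv.Perm GolayPt) ((d : Equiv.Perm GolayPt) x) :=
  congrArg (fun z : M24 => (z : Equiv.Perm GolayPt) x) h

/-- the moved points of `q` -/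
def Aq : Finset GolayPt := Finset.univ.filter fun x => (q : Equiv.Perm GolayPt) x ≠ x
/-- the fixed points of `q` -/
def Eq : Finset GolayPt := Finset.univ.filter fun x => (q : Equiv.Perm GolayPt) x = x

theorem card_Aq : Aq.card = 20 := by decide +kernel
theorem card_Eq : Eq.card = 4 := by decide +kernel

/-- a member of the centralizer of `q` fixing two suitable points is trivial -/
theorem inj_q (d : M24) (h : d * q = q * d) (h0 : (d : Equiv.Perm GolayPt) (pt 0) = pt 0)
    (h4 : (d : Equiv.Perm GolayPt) (pt 4) = pt 4) : d = 1 := by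
  have e1 : (q : Equiv.Perm GolayPt) (pt 0) = pt 15 := by decide +kernel
  have e2 : (q : Equiv.Perm GolayPt) (pt 15) = pt 3 := by decide +kernel
  have e3 : (q : Equiv.Perm GolayPt) (pt 3) = pt 1 := by decide +kernel
  have e4 : (q : Equiv.Perm GolayPt) (pt 1) = pt 14 := by decide +kernel
  have h15 : (d : Equiv.Perm GolayPt) (pt 15) = pt 15 := by rw [← e1, apply_comm h, h0]
  have h3 : (d : Equiv.Perm GolayPt) (pt 3) = pt 3 := by rw [← e2, apply_comm h, h15]
  have h1 : (d : Equiv.Perm GolayPt) (pt 1) = pt 1 := by rw [← e3, apply_comm h, h3]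
  have h14 : (d : Equiv.Perm GolayPt) (pt 14) = pt 14 := by rw [← e4, apply_comm h, h1]
  have hO : fin 57883 ∈ octads := fin_mem_octads_of_isOct (by decide +kernel)
  let s : Finset GolayPt := {pt 0, pt 15, pt 3, pt 1, pt 14, pt 4}
  have hs : s ⊆ fin 57883 := by decide +kernel
  have hs6 : s.card = 6 := by decide +kernel
  have hfix : ∀ z ∈ s, (d : Equiv.Perm GolayPt) z = z := by
    intro z hz
    simp only [s, Finset.mem_insert, Finset.mem_singleton] at hz
    rcases hz with rfl | rfl | rfl | rfl | rfl | rfl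
    · exact h0
    · exact h15
    · exact h3
    · exact h1
    · exact h14
    · exact h4
  have hst : (d : Equiv.Perm GolayPt) • fin 57883 = fin 57883 :=
    smul_octad_eq_of_five d.2 hO hO hs (by rw [hs6]; norm_num) (fun z hz => by
      rw [hfix z hz]; exact hs hz)
  have h23 : (d : Equiv.Perm GolayPt) (pt 23) = pt 23 := by
    have f1 : (q : Equiv.Perm GolayPt) ((d : Equiv.Perm GolayPt) (pt 23)) =
        (d : Equiv.Perm GolayPt) (pt 23) := by
      rw [← apply_comm h]
      congr 1
    have f2 : (d : Equiv.Perm GolayPt) (pt 23) ∉ fin 57883 := by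
      intro hmem
      rw [← hst, Finset.mem_smul_finset] at hmem
      obtain ⟨y, hy, hyd⟩ := hmem
      have : y = pt 23 := (d : Equiv.Perm GolayPt).injective hyd
      rw [this] at hy
      revert hy
      decide +kernel
    have f3 : ∀ y : GolayPt, (q : Equiv.Perm GolayPt) y = y → y ∉ fin 57883 → y = pt 23 := by
      decide +kernel
    exact f3 _ f1 f2
  apply Subtype.ext
  exact eq_one_of_fix_frame d.2 hO hs hs6.ge hfix (p := pt 23) (by decide +kernel) h23

theorem card_cent_q : Nat.card (Subgroup.centralizer {q}) ≤ 80 := by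
  have h := card_cent_le (g := q) (a := pt 0) (b := pt 4) Aq Eq
    (fun x hx => Finset.mem_filter.2 ⟨Finset.mem_univ _, hx⟩)
    (fun x hx => Finset.mem_filter.2 ⟨Finset.mem_univ _, hx⟩) (by decide +kernel)
    (by decide +kernel) inj_q
  rwa [card_Aq, card_Eq] at h

/-- the subgroup of order 5 -/
def Q : Subgroup M24 := Subgroup.zpowers q

theorem card_Q : Nat.card Q = 5 := by
  rw [Q, Nat.card_zpowers, orderOf_q]

theorem q_mem : q ∈ Subgroup.normalizer (Q : Set M24) :=
  Subgroup.le_normalizer (Subgroup.mem_zpowers q)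

theorem r_mem : r ∈ Subgroup.normalizer (Q : Set M24) :=
  mem_normalizer_zpowers (k := 2) (by rw [r_mul_q, pow_two]; group)

theorem c_mem : c ∈ Subgroup.normalizer (Q : Set M24) :=
  mem_normalizer_zpowers (k := 1) (by rw [c_mul_q, pow_one]; group)

theorem isPGroup_Q : IsPGroup 5 Q := isPGroup_of_card card_Q

theorem not_dvd_Q : ¬ 5 ∣ Q.index := not_dvd_index card_Q (by rw [card_M24]; norm_num)

/-- **the normalizer of a subgroup of order 5 of `M24` has order 240** -/
theorem card_normalizer_Q : Nat.card (Subgroup.normalizer (Q : Set M24)) = 240 := by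
  have : Fact (Nat.Prime 5) := ⟨by norm_num⟩
  obtain ⟨j, hj, h1⟩ := exists_card_normalizer_prime (by norm_num) card_Q
  rw [show (Subgroup.centralizer (Q : Set M24)) = Subgroup.centralizer {q} from
    centralizer_zpowers q] at h1
  have h2 := card_cent_q
  have h3 : j ≤ 4 := Nat.le_of_dvd (by norm_num) hj
  set N := Nat.card (Subgroup.normalizer (Q : Set M24)) with hN
  have h4 : N ≤ 320 := by
    rw [h1]
    calc j * Nat.card (Subgroup.centralizer {q}) ≤ 4 * 80 := Nat.mul_le_mul h3 h2
      _ = 320 := by norm_num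
  have d5 : 5 ∣ N := orderOf_q ▸ orderOf_dvd_of_mem q_mem
  have d4 : 4 ∣ N := orderOf_r ▸ orderOf_dvd_of_mem r_mem
  have d3 : 3 ∣ N := orderOf_c ▸ orderOf_dvd_of_mem c_mem
  have h5 := index_normalizer_modEq isPGroup_Q not_dvd_Q
  have h6 := (Subgroup.normalizer (Q : Set M24)).card_mul_index
  rw [card_M24, ← hN] at h6
  set i := (Subgroup.normalizer (Q : Set M24)).index with hi
  unfold Nat.ModEq at h5
  have h7 : 0 < N := Nat.card_pos
  obtain ⟨k, hk⟩ : 60 ∣ N := by omega
  have hk5 : k ≤ 5 := by omega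
  have hk0 : 0 < k := by omega
  interval_cases k <;> (rw [hk] at h6; omega)

/-! ### The prime 7 -/

/-- the word of `s` -/
def ws : List ℕ := [0,1,0,1,0,2,0,2,0,1,0,1,0,1,0,1,0,1,0,2,0,2,0,1,0,1,0,1,0,1,0,1,0,2,0,2,0,1,0,1,0,1]
/-- the word of `e` -/
def we : List ℕ := [1,0,1,0,2,0,2,0,1,0,1,0,1,0,1,0,1,0,2,0,2,0,1,0,1,0,1,1,0,1,0,2,0,2,0,1,0,1,0,1,
  0,1,0,1,0,2,0,2,0,1,0,1,0,1,1,0,1,0,2,0,2,0,1,0,1,0,1,0,1,0,1,0,2,0,2,0,1,0,1,0,
  1,1,0,1,0,2,0,2,0,1,0,1,0,1,0,1,0,1,0,2,0,2,0,1,0,1,0,1,0,1,0,1,0,2,0,2,0,1,0,1,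
  0,1,0,2,0,2,0,2,0,1,0,1,0,2,0,2]

/-- an element of order 7 -/
def s : M24 := wordG ws
/-- an element of order 3 with `e s e⁻¹ = s ^ 2` -/
def e : M24 := wordG we

theorem e_mul_s : e * s = s * s * e := by
  unfold e s
  rw [← wordG_append, ← wordG_append, ← wordG_append]
  exact wordG_eq (by decide +kernel)

theorem s_pow : s ^ 7 = 1 := by
  have h : wordG (ws ++ (ws ++ (ws ++ (ws ++ (ws ++ (ws ++ ws)))))) = wordG [] :=
    wordG_eq (by decide +kernel)
  simp only [wordG_append] at h
  change s * (s * (s * (s * (s * (s * s))))) = 1 at h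
  simpa [pow_succ, mul_assoc] using h

theorem e_pow : e ^ 3 = 1 := by
  have h : wordG (we ++ (we ++ we)) = wordG [] := wordG_eq (by decide +kernel)
  simp only [wordG_append] at h
  change e * (e * e) = 1 at h
  simpa [pow_succ, mul_assoc] using h

theorem s_ne : s ≠ 1 := by
  intro h
  have h1 : ∀ p, (wordG ws : Equiv.Perm GolayPt) p = p := fun p => by
    change (s : Equiv.Perm GolayPt) p = p
    rw [h]; rfl
  revert h1
  decide +kernel

theorem e_ne : e ≠ 1 := by
  intro h
  have h1 : ∀ p, (wordG we : Equiv.Perm GolayPt) p = p := fun p => by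
    change (e : Equiv.Perm GolayPt) p = p
    rw [h]; rfl
  revert h1
  decide +kernel

theorem orderOf_s : orderOf s = 7 := by
  have : Fact (Nat.Prime 7) := ⟨by norm_num⟩
  exact orderOf_eq_prime s_pow s_ne

theorem orderOf_e : orderOf e = 3 := orderOf_eq_prime e_pow e_ne

/-- the moved points of `s` -/
def As : Finset GolayPt := Finset.univ.filter fun x => (s : Equiv.Perm GolayPt) x ≠ x
/-- the fixed points of `s` -/
def Es : Finset GolayPt := Finset.univ.filter fun x => (s : Equiv.Perm GolayPt) x = x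

theorem card_As : As.card = 21 := by decide +kernel
theorem card_Es : Es.card = 3 := by decide +kernel

/-- a member of the centralizer of `s` fixing two suitable points is trivial -/
theorem inj_s (d : M24) (h : d * s = s * d) (h0 : (d : Equiv.Perm GolayPt) (pt 0) = pt 0)
    (h6 : (d : Equiv.Perm GolayPt) (pt 1) = pt 1) : d = 1 := by
  have e1 : (s : Equiv.Perm GolayPt) (pt 0) = pt 3 := by decide +kernel
  have e2 : (s : Equiv.Perm GolayPt) (pt 3) = pt 16 := by decide +kernel
  have e3 : (s : Equiv.Perm GolayPt) (pt 16) = pt 18 := by decide +kernel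
  have e4 : (s : Equiv.Perm GolayPt) (pt 18) = pt 6 := by decide +kernel
  have e5 : (s : Equiv.Perm GolayPt) (pt 6) = pt 22 := by decide +kernel
  have h19 : (d : Equiv.Perm GolayPt) (pt 3) = pt 3 := by rw [← e1, apply_comm h, h0]
  have h4 : (d : Equiv.Perm GolayPt) (pt 16) = pt 16 := by rw [← e2, apply_comm h, h19]
  have h9 : (d : Equiv.Perm GolayPt) (pt 18) = pt 18 := by rw [← e3, apply_comm h, h4]
  have h5 : (d : Equiv.Perm GolayPt) (pt 6) = pt 6 := by rw [← e4, apply_comm h, h9]
  have h18 : (d : Equiv.Perm GolayPt) (pt 22) = pt 22 := by rw [← e5, apply_comm h, h5]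
  have hO : fin 4563017 ∈ octads := fin_mem_octads_of_isOct (by decide +kernel)
  let S : Finset GolayPt := {pt 0, pt 3, pt 16, pt 18, pt 6, pt 22}
  have hs : S ⊆ fin 4563017 := by decide +kernel
  have hs6 : S.card = 6 := by decide +kernel
  have hfix : ∀ z ∈ S, (d : Equiv.Perm GolayPt) z = z := by
    intro z hz
    simp only [S, Finset.mem_insert, Finset.mem_singleton] at hz
    rcases hz with rfl | rfl | rfl | rfl | rfl | rfl
    · exact h0
    · exact h19
    · exact h4
    · exact h9
    · exact h5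
    · exact h18
  apply Subtype.ext
  exact eq_one_of_fix_frame d.2 hO hs hs6.ge hfix (p := pt 1) (by decide +kernel) h6

theorem card_cent_s : Nat.card (Subgroup.centralizer {s}) ≤ 63 := by
  have h := card_cent_le (g := s) (a := pt 0) (b := pt 1) As Es
    (fun x hx => Finset.mem_filter.2 ⟨Finset.mem_univ _, hx⟩)
    (fun x hx => Finset.mem_filter.2 ⟨Finset.mem_univ _, hx⟩) (by decide +kernel)
    (by decide +kernel) inj_s
  rwa [card_As, card_Es] at h

/-- the subgroup of order 7 -/
def S : Subgroup M24 := Subgroup.zpowers s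

theorem card_S : Nat.card S = 7 := by
  rw [S, Nat.card_zpowers, orderOf_s]

theorem s_mem : s ∈ Subgroup.normalizer (S : Set M24) :=
  Subgroup.le_normalizer (Subgroup.mem_zpowers s)

theorem e_mem : e ∈ Subgroup.normalizer (S : Set M24) :=
  mem_normalizer_zpowers (k := 2) (by rw [e_mul_s, pow_two]; group)

theorem isPGroup_S : IsPGroup 7 S := isPGroup_of_card card_S

theorem not_dvd_S : ¬ 7 ∣ S.index := not_dvd_index card_S (by rw [card_M24]; norm_num)

/-- **the normalizer of a subgroup of order 7 of `M24` has order 126** -/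
theorem card_normalizer_S : Nat.card (Subgroup.normalizer (S : Set M24)) = 126 := by
  have : Fact (Nat.Prime 7) := ⟨by norm_num⟩
  obtain ⟨j, hj, h1⟩ := exists_card_normalizer_prime (by norm_num) card_S
  rw [show (Subgroup.centralizer (S : Set M24)) = Subgroup.centralizer {s} from
    centralizer_zpowers s] at h1
  have h2 := card_cent_s
  have h3 : j ≤ 6 := Nat.le_of_dvd (by norm_num) hj
  set N := Nat.card (Subgroup.normalizer (S : Set M24)) with hN
  have h4 : N ≤ 378 := by
    rw [h1]
    calc j * Nat.card (Subgroup.centralizer {s}) ≤ 6 * 63 := Nat.mul_le_mul h3 h2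
      _ = 378 := by norm_num
  have d7 : 7 ∣ N := orderOf_s ▸ orderOf_dvd_of_mem s_mem
  have d3 : 3 ∣ N := orderOf_e ▸ orderOf_dvd_of_mem e_mem
  have h5 := index_normalizer_modEq isPGroup_S not_dvd_S
  have h6 := (Subgroup.normalizer (S : Set M24)).card_mul_index
  rw [card_M24, ← hN] at h6
  set i := (Subgroup.normalizer (S : Set M24)).index with hi
  unfold Nat.ModEq at h5
  have h7 : 0 < N := Nat.card_pos
  obtain ⟨k, hk⟩ : 21 ∣ N := by omega
  have hk5 : k ≤ 18 := by omega
  have hk0 : 0 < k := by omega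
  interval_cases k <;> (rw [hk] at h6; omega)

end Cfsg.Agent.H858.M24Norm
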