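import Cfsg.Agent.S1703
import Cfsg.Agent.J4.Invol
import Cfsg.Agent.H858.FixJ4
import Cfsg.Agent.H858.M24Norm
set_option linter.all false

/-!
# Normalizers of Sylow subgroups of `M24` in `2^11 : M24` and in `J4`
-/

set_option autoImplicit false

open Cfsg

namespace Cfsg.Agent.H858.VK

open Cfsg.Agent.Lib Cfsg.Agent.Lib.F2MatGroup
open Cfsg.Agent.J4.Rep112 Cfsg.Agent.J4.Pres Cfsg.Agent.J4.M24Hom Cfsg.Agent.J4.Nodes
open Cfsg.Agent.J4.Beta Cfsg.Agent.J4.Classes Cfsg.Agent.J4.ClassesData Cfsg.Agent.J4.Invol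
open Cfsg.Agent.J4.Lower Cfsg.Agent.J4.ClassesAbs
open Cfsg.Agent.H858.Fix

/-! ### A general lemma -/

section general

variable {G K : Type*} [Group G] [Group K] [Finite G]

omit [Finite G] in
theorem map_normalizer_aux {φ : K →* G} (hφ : Function.Injective φ) {V : Subgroup G}
    (hn : φ.range ≤ Subgroup.normalizer (V : Set G)) (hVK : ∀ x ∈ V, x ∈ φ.range → x = 1)
    {P : Subgroup K} {e : G} (he : e ∈ V) {k : K}
    (h : ∀ p ∈ P, e * φ k * φ p * (e * φ k)⁻¹ ∈ P.map φ) :
    ∀ p ∈ P, k * p * k⁻¹ ∈ P ∧ e * φ (k * p * k⁻¹) = φ (k * p * k⁻¹) * e := by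
  intro p hp
  obtain ⟨p', hp', h1⟩ := h p hp
  set u := k * p * k⁻¹ with hu
  have h2 : e * φ u * e⁻¹ = φ p' := by
    rw [h1, hu, map_mul, map_mul, map_inv]; group
  have h3 : e * (φ u * e⁻¹ * (φ u)⁻¹) = φ (p' * u⁻¹) := by
    have h3a : φ (p' * u⁻¹) = φ p' * (φ u)⁻¹ := by rw [map_mul, map_inv]
    rw [h3a, ← h2]
    simp only [mul_assoc]
  have h4 : e * (φ u * e⁻¹ * (φ u)⁻¹) ∈ V :=
    V.mul_mem he ((Subgroup.mem_normalizer_iff.1 (hn ⟨u, rfl⟩) _).1 (V.inv_mem he))
  have h5 : e * (φ u * e⁻¹ * (φ u)⁻¹) = 1 := hVK _ h4 ⟨_, h3.symm⟩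
  have h6 : p' = u := by
    rw [h5] at h3
    have : p' * u⁻¹ = 1 := hφ (by rw [← h3, map_one])
    exact mul_inv_eq_one.1 this
  refine ⟨h6 ▸ hp', ?_⟩
  rw [h6] at h2
  exact mul_inv_eq_iff_eq_mul.1 h2

/-- the normalizer of a subgroup of the complement in a semidirect product -/
theorem card_normalizer_inf {φ : K →* G} (hφ : Function.Injective φ) {V : Subgroup G}
    (hn : φ.range ≤ Subgroup.normalizer (V : Set G)) (hVK : ∀ x ∈ V, x ∈ φ.range → x = 1)
    {B : Subgroup G} (hB : ∀ x, x ∈ B ↔ ∃ e ∈ V, ∃ k, x = e * φ k) (P : Subgroup K) :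
    Nat.card (Subgroup.normalizer ((P.map φ : Subgroup G) : Set G) ⊓ B : Subgroup G) =
      Nat.card (V ⊓ Subgroup.centralizer ((P.map φ : Subgroup G) : Set G) : Subgroup G) *
        Nat.card (Subgroup.normalizer (P : Set K)) := by
  have hK : Finite K := Finite.of_injective φ hφ
  rw [← Nat.card_prod]
  have hmem : ∀ (e : G) (k : K), e ∈ V ⊓ Subgroup.centralizer ((P.map φ : Subgroup G) : Set G) →
      k ∈ Subgroup.normalizer (P : Set K) →
      e * φ k ∈ Subgroup.normalizer ((P.map φ : Subgroup G) : Set G) ⊓ B := by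
    intro e k he hk
    obtain ⟨he1, he2⟩ := Subgroup.mem_inf.1 he
    rw [Subgroup.mem_inf]
    refine ⟨?_, (hB _).2 ⟨e, he1, k, rfl⟩⟩
    exact Subgroup.mul_mem _ (Subgroup.centralizer_le_normalizer _ he2)
      (Subgroup.le_normalizer_map φ ⟨k, hk, rfl⟩)
  let f : (V ⊓ Subgroup.centralizer ((P.map φ : Subgroup G) : Set G) : Subgroup G) ×
      Subgroup.normalizer (P : Set K) →
      (Subgroup.normalizer ((P.map φ : Subgroup G) : Set G) ⊓ B : Subgroup G) :=
    fun z => ⟨(z.1 : G) * φ z.2, hmem _ _ z.1.2 z.2.2⟩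
  have hf : Function.Bijective f := by
    constructor
    · rintro ⟨e, k⟩ ⟨e', k'⟩ h
      have h1 : (e : G) * φ k = e' * φ k' := congrArg Subtype.val h
      have h2 : (e' : G)⁻¹ * e = φ ((k' : K) * (k : K)⁻¹) := by
        rw [map_mul, map_inv]
        calc (e' : G)⁻¹ * e = (e' : G)⁻¹ * (e * φ k) * (φ k)⁻¹ := by group
          _ = φ k' * (φ k)⁻¹ := by rw [h1]; group
      have h3 : (e' : G)⁻¹ * e = 1 := hVK _ (V.mul_mem (V.inv_mem (Subgroup.mem_inf.1 e'.2).1)
        (Subgroup.mem_inf.1 e.2).1) ⟨_, h2.symm⟩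
      have h4 : (k' : K) * (k : K)⁻¹ = 1 := hφ (by rw [← h2, h3, map_one])
      have h5 : e = e' := Subtype.ext (inv_mul_eq_one.1 h3).symm
      have h6 : k = k' := Subtype.ext (mul_inv_eq_one.1 h4).symm
      rw [h5, h6]
    · rintro ⟨x, hx⟩
      obtain ⟨hx1, hx2⟩ := Subgroup.mem_inf.1 hx
      obtain ⟨e, he, k, rfl⟩ := (hB x).1 hx2
      have h1 : ∀ p ∈ P, e * φ k * φ p * (e * φ k)⁻¹ ∈ P.map φ := fun p hp =>
        (Subgroup.mem_normalizer_iff.1 hx1 _).1 ⟨p, hp, rfl⟩
      have h2 := map_normalizer_aux hφ hn hVK he h1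
      have h3 : P.map (MulAut.conj k).toMonoidHom = P := by
        apply Subgroup.eq_of_le_of_card_ge
        · rintro _ ⟨p, hp, rfl⟩
          exact (h2 p hp).1
        · exact (Nat.card_congr (P.equivMapOfInjective (MulAut.conj k).toMonoidHom
            (MulAut.conj k).injective).toEquiv).le
      have h4 : k ∈ Subgroup.normalizer (P : Set K) := by
        rw [Subgroup.mem_normalizer_iff]
        intro y
        constructor
        · exact fun hy => (h2 y hy).1
        · intro hy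
          have hy' : k * y * k⁻¹ ∈ P.map (MulAut.conj k).toMonoidHom := by rw [h3]; exact hy
          obtain ⟨z, hz, hzy⟩ := hy'
          have h5 : k * z * k⁻¹ = k * y * k⁻¹ := hzy
          have h6 : z = y := mul_left_cancel (mul_right_cancel h5)
          exact h6 ▸ hz
      have h5 : e ∈ Subgroup.centralizer ((P.map φ : Subgroup G) : Set G) := by
        rw [Subgroup.mem_centralizer_iff]
        rintro _ ⟨y, hy, rfl⟩
        have hy' : y ∈ P.map (MulAut.conj k).toMonoidHom := by rw [h3]; exact hy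
        obtain ⟨z, hz, rfl⟩ := hy'
        exact (h2 z hz).2.symm
      exact ⟨⟨⟨e, Subgroup.mem_inf.2 ⟨he, h5⟩⟩, ⟨k, h4⟩⟩, rfl⟩
  exact (Nat.card_congr (Equiv.ofBijective f hf)).symm

end general

/-! ### The facts on `J4` -/

theorem isJ4 : Cfsg.IsJ4 Cfsg.Spor.J4 := Cfsg.Agent.S1703.result

instance finite_J4 : Finite Cfsg.Spor.J4 := FixJ4.facts.1

theorem injective_of_simple {G H : Type*} [Group G] [Group H] [IsSimpleGroup G] (f : G →* H)
    {a : G} (ha : f a ≠ 1) : Function.Injective f := by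
  rw [← MonoidHom.ker_eq_bot_iff]
  rcases (inferInstance : f.ker.Normal).eq_bot_or_eq_top with h | h
  · exact h
  · exfalso
    have hx : a ∈ f.ker := by rw [h]; trivial
    rw [MonoidHom.mem_ker] at hx
    exact ha hx

theorem rho_injective : Function.Injective rho := by
  have : IsSimpleGroup Cfsg.Spor.J4 := isJ4.1
  exact injective_of_simple rho (a := Cfsg.Agent.J4.Rep112.x) xg_ne

theorem phi_injective : Function.Injective phi := by
  intro a b h
  apply psi_injective
  show rho (phi a) = rho (phi b)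
  rw [h]

theorem phi_norm : phi.range ≤ Subgroup.normalizer (EJ : Set Cfsg.Spor.J4) := by
  rintro _ ⟨m, rfl⟩
  have key : ∀ m : M24, ∀ e ∈ EJ, phi m * e * (phi m)⁻¹ ∈ EJ := by
    intro m e he
    induction he using Subgroup.closure_induction with
    | mem x hx =>
      obtain ⟨g, rfl⟩ := hx
      apply Subgroup.subset_closure
      refine ⟨m * g, ?_⟩
      rw [map_mul]; group
    | one => rw [mul_one, mul_inv_cancel]; exact EJ.one_mem
    | mul x y _ _ hx hy =>
      have : phi m * (x * y) * (phi m)⁻¹ = (phi m * x * (phi m)⁻¹) * (phi m * y * (phi m)⁻¹) := by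
        group
      rw [this]; exact EJ.mul_mem hx hy
    | inv x _ hx =>
      have : phi m * x⁻¹ * (phi m)⁻¹ = (phi m * x * (phi m)⁻¹)⁻¹ := by group
      rw [this]; exact EJ.inv_mem hx
  rw [Subgroup.mem_normalizer_iff]
  intro e
  refine ⟨key m e, fun h => ?_⟩
  have h1 := key m⁻¹ _ h
  have e1 : phi m⁻¹ * (phi m * e * (phi m)⁻¹) * (phi m⁻¹)⁻¹ = e := by
    rw [map_inv]; group
  rwa [e1] at h1

theorem isPGroup_EJ : IsPGroup 2 EJ :=
  IsPGroup.of_card (n := 11) (card_EJ rho_injective)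

theorem inf_eq_one : ∀ x ∈ EJ, x ∈ phi.range → x = 1 := by
  rintro _ hx ⟨m, rfl⟩
  have : IsSimpleGroup M24 := Cfsg.Agent.S0365.result
  rw [eq_one_of_mem EJ isPGroup_EJ phi phi_injective
    Cfsg.Agent.J4.LowerBound.not_two_group_M24 phi_norm m hx, map_one]

/-! ### `B = EJ : M24` -/

theorem sE_eq : Cfsg.Agent.J4.Upper1.sE phi t = Cfsg.Agent.J4.Invol.s := by
  unfold Cfsg.Agent.J4.Upper1.sE Cfsg.Agent.J4.Rel.ws Cfsg.Agent.J4.Invol.s
    Cfsg.Agent.J4.Invol.wJ
  simp only [map_mul, map_pow, map_inv, phi_X, phi_Y, mul_assoc]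

theorem mem_B {x : Cfsg.Spor.J4} : x ∈ FixJ4.B ↔ ∃ e ∈ EJ, ∃ k, x = e * phi k := by
  have hB : FixJ4.B = EJ ⊔ phi.range := by
    apply le_antisymm
    · unfold FixJ4.B Cfsg.Agent.J4.Upper.HH
      rw [Subgroup.closure_le]
      rintro z (rfl | ⟨g, rfl⟩)
      · rw [sE_eq]
        exact (le_sup_left : EJ ≤ EJ ⊔ phi.range) (Subgroup.subset_closure ⟨1, by simp⟩)
      · exact (le_sup_right : phi.range ≤ EJ ⊔ phi.range) ⟨g, rfl⟩
    · apply sup_le
      · unfold EJ
        rw [Subgroup.closure_le]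
        rintro _ ⟨g, rfl⟩
        have h1 : phi g ∈ FixJ4.B := Cfsg.Agent.J4.Upper.range_le ⟨g, rfl⟩
        have h2 : Cfsg.Agent.J4.Invol.s ∈ FixJ4.B := by
          rw [← sE_eq]; exact Cfsg.Agent.J4.Upper.s_mem
        exact FixJ4.B.mul_mem (FixJ4.B.mul_mem h1 h2) (FixJ4.B.inv_mem h1)
      · exact Cfsg.Agent.J4.Upper.range_le
  constructor
  · intro hx
    rw [hB] at hx
    obtain ⟨e, he, _, ⟨k, rfl⟩, rfl⟩ := exists_mul_of_mem_sup phi_norm hx
    exact ⟨e, he, k, rfl⟩
  · rintro ⟨e, he, k, rfl⟩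
    rw [hB]
    exact Subgroup.mul_mem _ ((le_sup_left : EJ ≤ EJ ⊔ phi.range) he)
      ((le_sup_right : phi.range ≤ EJ ⊔ phi.range) ⟨k, rfl⟩)

/-- action of a word on coordinates -/
def actG (A C : List ℕ) : List ℕ → ℕ → ℕ
  | [], v => v
  | a :: w, v => bif Nat.beq a 0 then lin A (actG A C w v) else
      bif Nat.beq a 1 then lin C (lin C (actG A C w v)) else lin C (actG A C w v)

theorem YM_cube : YM * YM * YM = 1 := by
  have h : wordG [1, 1, 1] = wordG [] := M24Norm.wordG_eq (by decide +kernel)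
  simpa [wordG, letG1, mul_assoc] using h

theorem YM_eq : (YM : M24) = YM⁻¹ * YM⁻¹ := by
  rw [← mul_inv_rev, eq_inv_iff_mul_eq_one, ← mul_assoc, YM_cube]

theorem act_word_gen {G : Type*} [Group G] (ψ : M24 →* G) (l : List G) (A C : List ℕ)
    (hX : ∀ v, ψ XM * beta l v * (ψ XM)⁻¹ = beta l (lin A v))
    (hY : ∀ v, (ψ YM)⁻¹ * beta l v * ((ψ YM)⁻¹)⁻¹ = beta l (lin C v)) (w : List ℕ) (v : ℕ) :
    ψ (wordG w) * beta l v * (ψ (wordG w))⁻¹ = beta l (actG A C w v) := by
  induction w generalizing v with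
  | nil =>
    show ψ 1 * beta l v * (ψ 1)⁻¹ = beta l v
    rw [map_one, one_mul, inv_one, mul_one]
  | cons a w ih =>
    have h1 : ψ (wordG (a :: w)) * beta l v * (ψ (wordG (a :: w)))⁻¹ =
        ψ (letG a) * (ψ (wordG w) * beta l v * (ψ (wordG w))⁻¹) * (ψ (letG a))⁻¹ := by
      rw [wordG, map_mul]; group
    rw [h1, ih]
    rcases a with _ | _ | n
    · exact hX _
    · have h2 := hY (actG A C w v)
      have h3 := hY (lin C (actG A C w v))
      have h4 : actG A C ((0 + 1) :: w) v = lin C (lin C (actG A C w v)) := rfl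
      have h5 : ψ (letG (0 + 1)) = (ψ YM)⁻¹ * (ψ YM)⁻¹ := by
        rw [← map_inv, ← map_mul, ← YM_eq]; rfl
      rw [h4, ← h3, ← h2, h5]
      simp only [mul_assoc, mul_inv_rev, inv_inv]
    · have h2 := hY (actG A C w v)
      have h4 : actG A C ((n + 1 + 1) :: w) v = lin C (actG A C w v) := rfl
      have h5 : ψ (letG (n + 1 + 1)) = (ψ YM)⁻¹ := by
        rw [← map_inv]; rfl
      rw [h4, ← h2, h5]

theorem act_word (w : List ℕ) (v : ℕ) :
    psi (wordG w) * beta qs v * (psi (wordG w))⁻¹ = beta qs (actG Ax Ay w v) :=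
  act_word_gen psi qs Ax Ay hyp.actX hyp.actY w v

theorem qs_len : qs.length = 11 := hyp.len

/-- the powers of two -/
def p2 (n : ℕ) : List ℕ := (List.range n).map fun i => 2 ^ i

theorem forall₂_p2_aux {G : Type*} [Group G] (l : List G) :
    List.Forall₂ (fun a c => a = beta l c) l (p2 l.length) := by
  induction l with
  | nil => exact List.Forall₂.nil
  | cons a l ih =>
    have e : p2 (a :: l).length = 1 :: (p2 l.length).map (2 * ·) := by
      unfold p2
      rw [List.length_cons, List.range_succ_eq_map, List.map_cons, List.map_map, List.map_map]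
      congr 1
      apply List.map_congr_left
      intro i _
      simp only [Function.comp_apply, Nat.succ_eq_add_one, pow_succ]
      ring
    rw [e]
    refine List.Forall₂.cons ?_ ?_
    · rw [beta_cons]; simp [beta_zero]
    · rw [List.forall₂_map_right_iff]
      refine ih.imp ?_
      intro b c hb
      rw [beta_cons]
      have h1 : ¬ (2 * c) % 2 = 1 := by omega
      have h2 : 2 * c / 2 = c := by omega
      rw [if_neg h1, one_mul, h2]
      exact hb

/-- the matrix of a word -/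
def mat (w : List ℕ) : List ℕ := (p2 11).map (actG Ax Ay w)

/-- `M` is the matrix of the conjugation by `g` on the normal elementary abelian subgroup -/
def IsMat (g : GL (Fin 112) (ZMod 2)) (M : List ℕ) : Prop :=
  List.Forall₂ (fun a c => g * a * g⁻¹ = beta qs c) qs M

theorem isMat_word (w : List ℕ) : IsMat (psi (wordG w)) (mat w) := by
  unfold IsMat mat
  rw [List.forall₂_map_right_iff]
  have h := forall₂_p2_aux qs
  rw [qs_len] at h
  refine h.imp ?_
  intro a c h1
  rw [h1]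
  exact act_word w c

theorem isMat_apply {g : GL (Fin 112) (ZMod 2)} {M : List ℕ} (h : IsMat g M) (v : ℕ) :
    g * beta qs v * g⁻¹ = beta qs (lin M v) :=
  conj_beta qs hyp.sq hyp.comm g h v

theorem isMat_mul {g g' : GL (Fin 112) (ZMod 2)} {M M' : List ℕ} (h : IsMat g M) (h' : IsMat g' M') :
    IsMat (g * g') (M'.map (lin M)) := by
  unfold IsMat
  rw [List.forall₂_map_right_iff]
  refine h'.imp ?_
  intro a c h1
  have h2 := isMat_apply h c
  rw [← h1] at h2
  rw [← h2]
  group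

theorem lin_lt {M : List ℕ} (hM : ∀ a ∈ M, a < 2048) (v : ℕ) : lin M v < 2048 := by
  induction M generalizing v with
  | nil => rw [lin_nil]; norm_num
  | cons a M ih =>
    have ih' := ih (fun b hb => hM b (List.mem_cons_of_mem _ hb)) (v / 2)
    rw [lin_cons]
    split_ifs
    · exact Nat.xor_lt_two_pow (n := 11) (hM a (List.mem_cons_self ..)) ih'
    · exact ih'

/-- the centralizer in `EJ` of an element of `M24` given by a word -/
theorem card_EJ_cent (g : M24) (M : List ℕ) (hM : IsMat (psi g) M) (n : ℕ)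
    (h : ((List.range 2048).filter fun v => Nat.beq (lin M v) v).length = n)
    (hlt : ∀ a ∈ M, a < 2048) :
    Nat.card (EJ ⊓ Subgroup.centralizer {phi g} : Subgroup Cfsg.Spor.J4) = n := by
  classical
  let F : Finset ℕ := (Finset.range 2048).filter fun v => lin M v = v
  have hF : F.card = n := by
    rw [← h]
    have : F = ((List.range 2048).filter fun v => Nat.beq (lin M v) v).toFinset := by
      ext v
      simp only [F, Finset.mem_filter, Finset.mem_range, List.mem_toFinset, List.mem_filter,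
        List.mem_range, Nat.beq_eq]
    rw [this, List.toFinset_card_of_nodup (List.nodup_range.filter _)]
  have hex : ∀ e : (EJ ⊓ Subgroup.centralizer {phi g} : Subgroup Cfsg.Spor.J4),
      ∃ v, v ∈ F ∧ rho (e : Cfsg.Spor.J4) = beta qs v := by
    intro e
    obtain ⟨he1, he2⟩ := Subgroup.mem_inf.1 e.2
    obtain ⟨v, hv, h1⟩ := exists_beta hyp.sq hyp.comm ((mem_EJ_iff rho_injective _).mp he1)
    rw [qs_len] at hv
    refine ⟨v, Finset.mem_filter.2 ⟨Finset.mem_range.2 hv, ?_⟩, h1⟩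
    have h2 := isMat_apply hM v
    rw [← h1] at h2
    have h3 : psi g * rho (e : Cfsg.Spor.J4) * (psi g)⁻¹ = rho e := by
      have h4 := congrArg rho (Subgroup.mem_centralizer_iff.1 he2 _ rfl)
      rw [map_mul, map_mul] at h4
      rw [psi_eq, mul_inv_eq_iff_eq_mul]
      exact h4
    rw [h3, h1] at h2
    exact (beta_inj hyp.sq hyp.comm hyp.ind (by rw [qs_len]; exact lin_lt hlt v)
      (by rw [qs_len]; exact hv) h2.symm)
  choose f hf1 hf2 using hex
  have hbij : Function.Bijective (fun e => (⟨f e, hf1 e⟩ : {v // v ∈ F})) := by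
    constructor
    · intro a b hab
      have h1 : f a = f b := congrArg Subtype.val hab
      apply Subtype.ext
      apply rho_injective
      rw [hf2, hf2, h1]
    · rintro ⟨v, hv⟩
      obtain ⟨hv1, hv2⟩ := Finset.mem_filter.1 hv
      rw [Finset.mem_range] at hv1
      have hQ : beta qs v ∈ Q := beta_mem Q qs (fun a ha => Subgroup.subset_closure ha) _
      rw [← map_EJ] at hQ
      obtain ⟨e, he, hev⟩ := hQ
      have hc : e ∈ Subgroup.centralizer {phi g} := by
        rw [Subgroup.mem_centralizer_iff]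
        rintro _ rfl
        apply rho_injective
        rw [map_mul, map_mul, hev]
        have h2 := isMat_apply hM v
        rw [hv2, psi_eq] at h2
        rw [← mul_inv_eq_iff_eq_mul]
        exact h2
      refine ⟨⟨e, Subgroup.mem_inf.2 ⟨he, hc⟩⟩, ?_⟩
      apply Subtype.ext
      show f _ = v
      have h3 := hf2 ⟨e, Subgroup.mem_inf.2 ⟨he, hc⟩⟩
      have h4 : beta qs v = beta qs (f ⟨e, Subgroup.mem_inf.2 ⟨he, hc⟩⟩) := by
        rw [← h3]; exact hev.symm
      have h5 := (Finset.mem_range.1 (Finset.mem_filter.1 (hf1 ⟨e, Subgroup.mem_inf.2 ⟨he, hc⟩⟩)).1)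
      exact (beta_inj hyp.sq hyp.comm hyp.ind (by rw [qs_len]; exact hv1)
        (by rw [qs_len]; exact h5) h4).symm
  rw [Nat.card_congr (Equiv.ofBijective _ hbij), Nat.card_eq_finsetCard, hF]

end Cfsg.Agent.H858.VK
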