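import Cfsg.Agent.H282.SK.Tools
import Cfsg.Agent.OddHalf.D5.SixAut.ZeroEnd_m3
import Cfsg.Agent.CoThreeStd.M12.Out
import Cfsg.Agent.H858.OdmRowM22
import Cfsg.Agent.H217.Odm.Real_m3
import Cfsg.Agent.FastGrp
import Cfsg.Agent.Prune
set_option linter.all false
prune_inst 0x7f00000000000000000000000000000000000000000000000000000000000000000000000000000000000000000000000000000000000000000000000000000000000000000000000000000000000000003fffffffffffffffffffffffffffbeffbdffffffff
open scoped Cfsg.Agent.FastGrp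

/-!
# TEAM SIDKI (S3010): the row of `M₁₂` (helper858)

An outer involution inverts an element of order 11. If `V ≤ K`, then `V` contains a `2B` involution `v`; `v` inverts
an element `x` of order 3 with `C(⟨v, x⟩) ≅ S₃`.
-/

set_option autoImplicit false

namespace Cfsg.Agent.H858.SidM12

open Cfsg Subgroup
open Cfsg.Agent.H282.SK
open Cfsg.Agent.CoThreeStd.MTwelve Cfsg.Agent.CoThreeStd.InvTwo Cfsg.Agent.CoThreeStd.OutAut
open Cfsg.Agent.CoThreeStd.DeltaData (mem_cbe cbe wbe be)
open Cfsg.Agent.OddHalf.D9.TwoM12 (conj_al out12 center_H)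

universe u

local notation "αα" => Cfsg.Agent.CoThreeStd.OutAut.alpha
local notation "BB" => Cfsg.Agent.CoThreeStd.InvTwo.IsB
local notation "AA" => Cfsg.Agent.CoThreeStd.InvTwo.IsA

/-- an element of order 11 inverted by `alpha` -/
def wX : List ℕ := [5, 4, 5, 0, 5, 3, 1]
/-- an element of order 3 inverted by `p * r` -/
def wA : List ℕ := [3, 5, 3, 1, 5, 4, 2, 1]
/-- an element of order 3 of `C(⟨p r, A⟩)` -/
def wC : List ℕ := [5, 2, 3, 4, 1, 0, 5, 2, 3, 0]

def X0 : H := wd wX
def A0 : H := wd wA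
def C0 : H := wd wC

theorem X0_ne : X0 ≠ 1 := wd_ne (l' := []) 0 (by norm_num) (by decide +kernel)

theorem wd_rep (l : List ℕ) (n : ℕ) : wd (List.replicate n l).flatten = wd l ^ n := by
  induction n with
  | zero => rw [pow_zero]; rfl
  | succ n ih => rw [List.replicate_succ, List.flatten_cons, wd_append, ih, pow_succ']

theorem X0_pow : X0 ^ 11 = 1 := by
  rw [X0, ← wd_rep]
  exact wd_eq (l' := []) (by decide +kernel)

theorem X0_ord : orderOf X0 = 11 :=
  orderOf_eq_prime (p := 11) X0_pow X0_ne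

theorem alpha_X0 : αα X0 = X0⁻¹ := by
  rw [X0, alpha_wd, wd_reverse]
  exact wd_eq (by decide +kernel)

theorem A0_ne : A0 ≠ 1 := wd_ne (l' := []) 0 (by norm_num) (by decide +kernel)
theorem C0_ne : C0 ≠ 1 := wd_ne (l' := []) 1 (by norm_num) (by decide +kernel)

theorem A0_pow : A0 ^ 3 = 1 := by
  rw [A0, ← wd_rep]
  exact wd_eq (l' := []) (by decide +kernel)

theorem C0_pow : C0 ^ 3 = 1 := by
  rw [C0, ← wd_rep]
  exact wd_eq (l' := []) (by decide +kernel)

theorem A0_ord : orderOf A0 = 3 := orderOf_eq_prime A0_pow A0_ne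
theorem C0_ord : orderOf C0 = 3 := orderOf_eq_prime C0_pow C0_ne

theorem pr_inv : (p * r)⁻¹ = p * r := inv_eq_of_mul_eq_one_left pr_sq

theorem A0_inv : (p * r) * A0 * (p * r)⁻¹ = A0⁻¹ := by
  rw [pr_inv, A0, wd_reverse, ← wd_pr, ← wd_append, ← wd_append]
  exact wd_eq (by decide +kernel)

theorem C0_pr : (p * r) * C0 = C0 * (p * r) := by
  rw [C0, ← wd_pr, ← wd_append, ← wd_append]
  exact wd_eq (by decide +kernel)

theorem C0_A0 : A0 * C0 = C0 * A0 := by
  rw [C0, A0, ← wd_append, ← wd_append]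
  exact wd_eq (by decide +kernel)

def test (l : List ℕ) : Bool :=
  eqW l [] || !(eqW (l ++ l) []) || !(eqW (l ++ wA) (wA ++ l)) || eqW (l ++ (wC ++ (l ++ wC))) []

theorem test_all : cbe.all test = true := by decide +kernel

/-- the involutions of `C(⟨p r, A⟩)` invert `C` -/
theorem inverts {m : H} (h1 : m * (p * r) = (p * r) * m) (h2 : m * m = 1) (h3 : m ≠ 1) (h4 : m * A0 = A0 * m) :
    m * C0 * m⁻¹ = C0⁻¹ := by
  obtain ⟨l, hl, rfl⟩ := mem_cbe m h1
  have h5 := List.all_eq_true.mp test_all l hl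
  rw [test, Bool.or_eq_true, Bool.or_eq_true, Bool.or_eq_true] at h5
  rcases h5 with ((h5 | h5) | h5) | h5
  · exact absurd (wd_eq h5) h3
  · exfalso
    rw [Bool.not_eq_true'] at h5
    rw [← wd_append] at h2
    rw [eqW_of_wd (l' := []) h2] at h5
    exact Bool.noConfusion h5
  · exfalso
    rw [Bool.not_eq_true'] at h5
    rw [A0, ← wd_append, ← wd_append] at h4
    rw [eqW_of_wd h4] at h5
    exact Bool.noConfusion h5
  · have h6 := wd_eq h5
    rw [wd_append, wd_append, wd_append] at h6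
    have h7 : (wd l)⁻¹ = wd l := inv_eq_of_mul_eq_one_left h2
    rw [h7, eq_inv_iff_mul_eq_one]
    calc wd l * C0 * wd l * C0 = wd l * (wd wC * (wd l * wd wC)) := by simp only [C0, mul_assoc]
      _ = 1 := h6

/-! ### order 11 -/

theorem card_c11 (x : H) (hx : orderOf x = 11) : Nat.card (centralizer ({x} : Set H)) = 11 := by
  have hfin : Finite H := Nat.finite_of_card_ne_zero (by rw [card_H]; norm_num)
  have h0 : orderOf (Cfsg.Agent.CoThreeStd.M12.equiv.symm Cfsg.Agent.CoThreeStd.M12.Out.g) = 11 := by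
    rw [MulEquiv.orderOf_eq, Cfsg.Agent.CoThreeStd.M12.Out.orderOf_g]
  rw [Cfsg.Agent.H858.OdmRowM22.card_cent_all (p := 11) (n := 8640) (by norm_num) card_H (by norm_num) h0 hx]
  set x₀ := Cfsg.Agent.CoThreeStd.M12.equiv.symm Cfsg.Agent.CoThreeStd.M12.Out.g with hx₀
  have h1 : centralizer ({x₀} : Set H) = zpowers x₀ := by
    apply le_antisymm
    · intro c hc
      have h2 : c * x₀ = x₀ * c := mem_centralizer_singleton_iff.1 hc
      obtain ⟨k, hk⟩ := Cfsg.Agent.CoThreeStd.M12.Out.cent_g (x := Cfsg.Agent.CoThreeStd.M12.equiv c) (by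
        have h3 := congrArg Cfsg.Agent.CoThreeStd.M12.equiv h2
        rwa [map_mul, map_mul, hx₀, MulEquiv.apply_symm_apply] at h3)
      refine ⟨(k : ℕ), ?_⟩
      show x₀ ^ ((k : ℕ) : ℤ) = c
      apply Cfsg.Agent.CoThreeStd.M12.equiv.injective
      rw [zpow_natCast, map_pow, hx₀, MulEquiv.apply_symm_apply, hk]
    · exact zpowers_le.2 (mem_centralizer_singleton_iff.2 rfl)
  rw [h1, Nat.card_zpowers, h0]

theorem card_n11 (x : H) (hx : orderOf x = 11) :
    Nat.card (normalizer ((zpowers x : Subgroup H) : Set H)) = 11 * 5 := by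
  have hfin : Finite H := Nat.finite_of_card_ne_zero (by rw [card_H]; norm_num)
  exact Cfsg.Agent.H217.Odm.norm_of_self_cent (n := 8640) (by norm_num) card_H (by norm_num) hx (card_c11 x hx)

theorem eq_one_of {G : Type*} [Group G] {a : G} (h2 : a * a = 1) {n : ℕ} (hn : Odd n) (h : a ^ n = 1) : a = 1 := by
  obtain ⟨k, rfl⟩ := hn
  rw [pow_succ, pow_mul, pow_two, h2, one_pow, one_mul] at h
  exact h

/-- an element normalising `⟨x⟩` with square 1 is trivial -/
theorem eq_one_of_inv11 {x c : H} (hx : orderOf x = 11) (h2 : c * c = 1)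
    (h : c * x * c⁻¹ = x ∨ c * x * c⁻¹ = x⁻¹) : c = 1 := by
  have hcn : c ∈ normalizer ((zpowers x : Subgroup H) : Set H) := by
    have hz : ∀ w ∈ zpowers x, c * w * c⁻¹ ∈ zpowers x := by
      intro w hw
      obtain ⟨k, rfl⟩ := mem_zpowers_iff.1 hw
      rw [← conj_zpow]
      rcases h with h | h
      · rw [h]; exact ⟨k, rfl⟩
      · rw [h, inv_zpow']; exact ⟨-k, rfl⟩
    have hi : c⁻¹ = c := inv_eq_of_mul_eq_one_left h2
    rw [mem_normalizer_iff]
    intro w
    refine ⟨hz w, fun hw => ?_⟩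
    have h3 := hz _ hw
    have h4 : c * (c * w * c⁻¹) * c⁻¹ = w := by
      rw [hi]
      calc c * (c * w * c) * c = (c * c) * w * (c * c) := by group
        _ = w := by rw [h2]; group
    rwa [h4] at h3
  have hd := Subgroup.orderOf_dvd_natCard _ hcn
  rw [card_n11 x hx] at hd
  exact eq_one_of h2 (n := 55) (by decide) (orderOf_dvd_iff_pow_eq_one.1 hd)

/-! ### no pure `2A` subgroup of order 8 -/

theorem exists_B (W : Subgroup H) (h2 : ∀ w ∈ W, w * w = 1) (h8 : 8 ∣ Nat.card W) : ∃ w ∈ W, BB w := by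
  by_contra hcon
  push Not at hcon
  have hfin : Finite H := Nat.finite_of_card_ne_zero (by rw [card_H]; norm_num)
  have hA : ∀ w ∈ W, w ≠ 1 → AA w := fun w hw h1 => (inv2.cases w (h2 w hw) h1).resolve_right (hcon w hw)
  -- `W` acts on the dodecad
  let Pts := {z : GolayPt // z ∈ Cfsg.Agent.SporadicStructure.M11InvPerms.dd}
  let act : MulAction W Pts :=
    { smul := fun w z => ⟨w.1.1 z.1, dd_of_mem w.1 z.2⟩
      one_smul := fun z => Subtype.ext rfl
      mul_smul := fun a b z => Subtype.ext rfl }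
  have hst : ∀ z : Pts, MulAction.stabilizer W z = ⊥ := by
    intro z
    rw [eq_bot_iff]
    intro w hw
    rw [mem_bot]
    by_contra h1
    have h3 : w.1.1 z.1 = z.1 := congrArg Subtype.val (MulAction.mem_stabilizer_iff.1 hw)
    exact (hA w.1 w.2 (fun h => h1 (Subtype.ext h))).no_fix z.1 h3
  have hc : Nat.card W ∣ Nat.card Pts := by
    have h4 := Nat.card_congr (MulAction.selfEquivSigmaOrbitsQuotientStabilizer W Pts)
    have : Fintype (Quotient (MulAction.orbitRel W Pts)) := Fintype.ofFinite _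
    rw [h4, Nat.card_sigma]
    apply Finset.dvd_sum
    intro ω _
    rw [hst]
    rw [Nat.card_congr (QuotientGroup.quotientBot (G := W)).toEquiv]
  have h12 : Nat.card Pts = 12 := by
    rw [Nat.card_eq_fintype_card]
    decide +kernel
  rw [h12] at hc
  have := h8.trans hc
  norm_num at this

/-! ### the row -/

set_option maxHeartbeats 1000000 in
theorem dead_m12 : DeadS.{u} (fun K _ => Spor.IsoM12 K) := by
  intro G _ _ V K h hK
  have := h.norm
  obtain ⟨e⟩ := hK
  let φ : G →* MulAut H := (MulAut.congr e).toMonoidHom.comp MulAut.conjNormal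
  have hφ : ∀ (g : G) (k : K), ∃ k' : K, (k' : G) = g * k * g⁻¹ ∧ φ g (e k) = e k' := by
    intro g k
    refine ⟨MulAut.conjNormal g k, MulAut.conjNormal_apply g k, ?_⟩
    show e (MulAut.conjNormal g (e.symm (e k))) = _
    rw [e.symm_apply_apply]
  have hin0 : ∀ g : G, ∀ m : H, (∀ x, φ g x = m * x * m⁻¹) → g = e.symm m := by
    intro g m hm
    have h1 : (e.symm m : G)⁻¹ * g = 1 := by
      apply h.eq_one_of_comm
      intro k hk
      obtain ⟨k', hk', h2⟩ := hφ g ⟨k, hk⟩
      rw [hm] at h2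
      have h3 : k' = e.symm m * ⟨k, hk⟩ * (e.symm m)⁻¹ := by
        apply e.injective
        rw [← h2, map_mul, map_mul, map_inv, e.apply_symm_apply]
      have h4 : g * k * g⁻¹ = (e.symm m : G) * k * (e.symm m : G)⁻¹ := by
        rw [← hk', h3]; rfl
      calc (e.symm m : G)⁻¹ * g * k = (e.symm m : G)⁻¹ * (g * k * g⁻¹) * g := by group
        _ = (e.symm m : G)⁻¹ * ((e.symm m : G) * k * (e.symm m : G)⁻¹) * g := by rw [h4]
        _ = _ := by group
    exact (inv_mul_eq_one.1 h1).symm
  have hin : ∀ g : G, φ g ∈ (MulAut.conj : H →* MulAut H).range → g ∈ K := by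
    rintro g ⟨m, hm⟩
    rw [hin0 g m (fun x => by rw [← hm, MulAut.conj_apply])]
    exact (e.symm m).2
  have hinv : ∀ (g : G) (X : H), φ g X = X⁻¹ → g * (e.symm X : G) * g⁻¹ = (e.symm X : G)⁻¹ := by
    intro g X hX
    obtain ⟨k', hk', h2⟩ := hφ g (e.symm X)
    rw [e.apply_symm_apply, hX] at h2
    rw [← hk', ← e.symm_apply_apply k', ← h2, map_inv]
    rfl
  have hcom : ∀ (g : G) (X : H), Commute g (e.symm X : G) → φ g X = X := by
    intro g X hX
    obtain ⟨k', hk', h2⟩ := hφ g (e.symm X)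
    rw [e.apply_symm_apply] at h2
    rw [h2]
    have h3 : k' = e.symm X := by
      apply Subtype.ext
      rw [hk', hX.eq]; group
    rw [h3, e.apply_symm_apply]
  have hord : ∀ X : H, orderOf (e.symm X : G) = orderOf X := by
    intro X
    rw [Subgroup.orderOf_coe, MulEquiv.orderOf_eq]
  have hke : ∀ (k : K) (X : H), φ k X = e k * X * (e k)⁻¹ := by
    intro k X
    obtain ⟨k', hk', h2⟩ := hφ k (e.symm X)
    rw [e.apply_symm_apply] at h2
    rw [h2]
    have h3 : k' = k * e.symm X * k⁻¹ := Subtype.ext hk'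
    rw [h3, map_mul, map_mul, map_inv, e.apply_symm_apply]
  by_cases hV : ∃ v ∈ V, v ∉ K
  · -- outer involutions
    obtain ⟨v, hv, hvK⟩ := hV
    obtain ⟨k, hk⟩ := conj_al (φ v) (fun hh => hvK (hin v hh)) (by rw [← map_mul, h.sq hv, map_one])
    set X : H := k⁻¹ * X0 * k with hXdef
    have hXo : orderOf X = 11 := by
      rw [← X0_ord, hXdef]
      have := orderOf_injective (MulAut.conj k⁻¹).toMonoidHom (MulAut.conj k⁻¹).injective X0
      simpa using this
    have hX : φ v X = X⁻¹ := by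
      have h1 := hk X0
      rw [alpha_X0] at h1
      calc φ v X = k⁻¹ * (k * φ v X * k⁻¹) * k := by group
        _ = k⁻¹ * X0⁻¹ * k := by rw [h1]
        _ = _ := by rw [hXdef]; group
    obtain ⟨w, hwV, hw1, hwc⟩ := h.t0 (v := v) (x := (e.symm X : G)) hv (by rw [hord, hXo]; decide) (hinv v X hX)
    have hwX := hcom w X hwc
    by_cases hwK : w ∈ K
    · have h1 := hke ⟨w, hwK⟩ X
      have h2 : e ⟨w, hwK⟩ * e ⟨w, hwK⟩ = 1 := by
        rw [← map_mul, ← map_one e]
        congr 1
        exact Subtype.ext (h.sq hwV)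
      have h3 := eq_one_of_inv11 hXo h2 (Or.inl (h1.symm.trans hwX))
      apply hw1
      rw [← map_one e] at h3
      exact congrArg Subtype.val (e.injective h3)
    · have hwv : w * v ∈ K := by
        apply hin
        rw [map_mul]
        exact out12 _ _ (fun hh => hwK (hin w hh)) (fun hh => hvK (hin v hh))
      have h1 := hke ⟨w * v, hwv⟩ X
      have h2 : e ⟨w * v, hwv⟩ * e ⟨w * v, hwv⟩ = 1 := by
        rw [← map_mul, ← map_one e]
        congr 1
        exact Subtype.ext (h.sq (V.mul_mem hwV hv))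
      have h4 : φ (w * v) X = X⁻¹ := by
        have h5 : φ (w * v) X = φ w (φ v X) := by rw [map_mul φ w v]; rfl
        rw [h5, hX, map_inv, hwX]
      have h3 := eq_one_of_inv11 hXo h2 (Or.inr (h1.symm.trans h4))
      rw [h3, one_mul, inv_one, mul_one] at h1
      have h5 : X = X⁻¹ := h1.symm.trans h4
      have h6 : X ^ 2 = 1 := by
        rw [pow_two]
        nth_rewrite 1 [h5]
        exact inv_mul_cancel X
      have h7 := orderOf_dvd_of_pow_eq_one h6
      rw [hXo] at h7
      norm_num at h7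
  · push Not at hV
    -- `V ≤ K`
    have hVK : V ≤ K := hV
    set W : Subgroup H := (V.subgroupOf K).map e.toMonoidHom with hW
    have hcard : Nat.card W = Nat.card V := by
      rw [hW, Subgroup.card_map_of_injective e.injective]
      exact Nat.card_congr (Subgroup.subgroupOfEquivOfLe hVK).toEquiv
    have hdvd : 8 ∣ Nat.card W := by
      rw [hcard]
      have hp : IsPGroup 2 V := H273.Sidki.elemAb_isPGroup h.elem
      obtain ⟨n, hn⟩ := IsPGroup.iff_card.1 hp
      have h8 := h.card
      rw [hn] at h8 ⊢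
      have h3 : 3 ≤ n := by
        by_contra hlt
        push Not at hlt
        have : 2 ^ n ≤ 2 ^ 2 := Nat.pow_le_pow_right (by norm_num) (by omega)
        omega
      exact pow_dvd_pow 2 h3
    obtain ⟨w, hwW, hwB⟩ := exists_B W (by
      rintro _ ⟨k, hk, rfl⟩
      show e k * e k = 1
      rw [← map_mul, ← map_one e]
      congr 1
      exact Subtype.ext (h.sq hk)) hdvd
    obtain ⟨v, hv, rfl⟩ := hwW
    obtain ⟨c, hc⟩ := hwB
    have hc' : c⁻¹ * (p * r) * c = e v := hc
    have hvV : (v : G) ∈ V := hv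
    have hv1 : (v : G) ≠ 1 := by
      intro h1
      have h2 : v = 1 := Subtype.ext h1
      rw [h2, map_one] at hc'
      apply pr_ne
      calc p * r = c * (c⁻¹ * (p * r) * c) * c⁻¹ := by group
        _ = 1 := by rw [hc']; group
    have ho : ∀ z : H, orderOf (c⁻¹ * z * c) = orderOf z := by
      intro z
      have := orderOf_injective (MulAut.conj c⁻¹).toMonoidHom (MulAut.conj c⁻¹).injective z
      simpa using this
    refine h.false_of (v := (v : G)) (x := (e.symm (c⁻¹ * A0 * c) : G)) hvV hv1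
      (by rw [hord, ho, A0_ord]; decide) ?_ ?_
    · apply hinv
      rw [hke, ← hc']
      calc c⁻¹ * (p * r) * c * (c⁻¹ * A0 * c) * (c⁻¹ * (p * r) * c)⁻¹ = c⁻¹ * ((p * r) * A0 * (p * r)⁻¹) * c := by
            group
        _ = c⁻¹ * A0⁻¹ * c := by rw [A0_inv]
        _ = _ := by group
    · intro w hwV hw1 hwc
      have hwK := hVK hwV
      have h1 := hcom w _ hwc
      rw [show w = ((⟨w, hwK⟩ : K) : G) from rfl, hke] at h1
      set m : H := c * e ⟨w, hwK⟩ * c⁻¹ with hm
      have hew : e ⟨w, hwK⟩ = c⁻¹ * m * c := by rw [hm]; group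
      have hm2 : m * m = 1 := by
        have h2 : e ⟨w, hwK⟩ * e ⟨w, hwK⟩ = 1 := by
          rw [← map_mul, ← map_one e]
          congr 1
          exact Subtype.ext (h.sq hwV)
        calc m * m = c * (e ⟨w, hwK⟩ * e ⟨w, hwK⟩) * c⁻¹ := by rw [hm]; group
          _ = 1 := by rw [h2]; group
      have hm1 : m ≠ 1 := by
        intro h2
        rw [h2] at hew
        apply hw1
        have h3 : e ⟨w, hwK⟩ = e 1 := by rw [hew, map_one]; group
        exact congrArg Subtype.val (e.injective h3)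
      have hmA : m * A0 = A0 * m := by
        rw [hew] at h1
        have h2 : m * A0 * m⁻¹ = A0 := by
          calc m * A0 * m⁻¹ = c * (c⁻¹ * m * c * (c⁻¹ * A0 * c) * (c⁻¹ * m * c)⁻¹) * c⁻¹ := by group
            _ = c * (c⁻¹ * A0 * c) * c⁻¹ := by rw [h1]
            _ = A0 := by group
        rwa [mul_inv_eq_iff_eq_mul] at h2
      have hmp : m * (p * r) = (p * r) * m := by
        have h2 : w * (v : G) = v * w := (h.comm hwV hvV).eq
        have h3 : e ⟨w, hwK⟩ * e v = e v * e ⟨w, hwK⟩ := by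
          rw [← map_mul, ← map_mul]
          congr 1
          exact Subtype.ext h2
        rw [hew, ← hc'] at h3
        calc m * (p * r) = c * (c⁻¹ * m * c * (c⁻¹ * (p * r) * c)) * c⁻¹ := by group
          _ = c * (c⁻¹ * (p * r) * c * (c⁻¹ * m * c)) * c⁻¹ := by rw [h3]
          _ = _ := by group
      have hmC := inverts hmp hm2 hm1 hmA
      obtain ⟨X, hX⟩ : ∃ X : H, X = c⁻¹ * A0 * c := ⟨_, rfl⟩
      obtain ⟨Y, hY⟩ : ∃ Y : H, Y = c⁻¹ * C0 * c := ⟨_, rfl⟩
      rw [← hX]
      have hYo : orderOf Y = 3 := by rw [hY, ho, C0_ord]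
      refine ⟨(e.symm Y : G), ?_, by rw [hord, hYo]; decide, ?_, ?_, ?_⟩
      · intro h2
        have h4 : e.symm Y = 1 := Subtype.ext h2
        have h3 : Y = 1 := by
          rw [← e.apply_symm_apply Y, h4, map_one]
        rw [h3, orderOf_one] at hYo
        norm_num at hYo
      · have h2 : v * e.symm Y = e.symm Y * v := by
          apply e.injective
          rw [map_mul, map_mul, e.apply_symm_apply, ← hc', hY]
          calc c⁻¹ * (p * r) * c * (c⁻¹ * C0 * c) = c⁻¹ * ((p * r) * C0) * c := by group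
            _ = c⁻¹ * (C0 * (p * r)) * c := by rw [C0_pr]
            _ = _ := by group
        exact congrArg Subtype.val h2
      · have h3 : X * Y = Y * X := by
          rw [hX, hY]
          calc c⁻¹ * A0 * c * (c⁻¹ * C0 * c) = c⁻¹ * (A0 * C0) * c := by group
            _ = c⁻¹ * (C0 * A0) * c := by rw [C0_A0]
            _ = _ := by group
        have h2 : e.symm X * e.symm Y = e.symm Y * e.symm X := by
          rw [← map_mul e.symm X Y, ← map_mul e.symm Y X, h3]
        exact congrArg Subtype.val h2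
      · apply hinv
        rw [show w = ((⟨w, hwK⟩ : K) : G) from rfl, hke, hew, hY]
        calc c⁻¹ * m * c * (c⁻¹ * C0 * c) * (c⁻¹ * m * c)⁻¹ = c⁻¹ * (m * C0 * m⁻¹) * c := by group
          _ = c⁻¹ * C0⁻¹ * c := by rw [hmC]
          _ = _ := by group

end Cfsg.Agent.H858.SidM12

private theorem dce_e5f1f1405058 : _root_.True := by
  try have : _root_.True := by simp only [_root_.Cfsg.Agent.H858.SidM12.A0.eq_1]
  try have : _root_.True := by simp only [_root_.Cfsg.Agent.H858.SidM12.test.eq_1]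
  try have : _root_.True := by simp only [_root_.Cfsg.Agent.H858.SidM12.X0.eq_1]
  try have : _root_.True := by simp only [_root_.Cfsg.Agent.H858.SidM12.C0.eq_1]
  exact _root_.True.intro
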