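import Cfsg.Agent.J4Type.Top
import Cfsg.Agent.H856.Bridge
import Cfsg.Agent.H858.Trans
set_option linter.all false

/-!
# The centralizer of the 2-central involution of `J4`
-/

set_option autoImplicit false

open Cfsg
open scoped Pointwise

namespace Cfsg.Agent.H858.CentS

open Cfsg.Agent.J4Type Cfsg.Agent.J4Type.FinalTau Cfsg.Agent.J4Type.FinalRel

variable {G : Type*} [Group G]

/-- the order of the centralizer of `t` -/
theorem card_cent [Finite G] {t : G} {Q N M : Subgroup (Subgroup.centralizer ({t} : Set G))}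
    (H : Hyp t Q N M) : Nat.card (Subgroup.centralizer ({t} : Set G)) = 21799895040 := by
  obtain ⟨π, hπ, hk⟩ := H.pi
  have hNn := H.Nn
  have h1 : π.ker = N.subgroupOf M := by
    ext m
    rw [MonoidHom.mem_ker, hk, Subgroup.mem_subgroupOf]
  have h2 := π.ker.card_mul_index
  rw [Subgroup.index_ker, MonoidHom.range_eq_top.2 hπ, Subgroup.card_top,
    Cfsg.Agent.SporadicA.MathieuRecog.card_M22, h1,
    Nat.card_congr (Subgroup.subgroupOfEquivOfLe H.NM).toEquiv, H.card_N, H.card_Q] at h2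
  have h3 := M.card_mul_index
  rw [H.index_M, ← h2] at h3
  rw [← h3]
  norm_num

/-- an isomorphism mapping the involution `s` of the presented group to a conjugate of `t` -/
theorem exists_iso_s [Finite G] [IsSimpleGroup G] {t : G}
    {Q N M : Subgroup (Subgroup.centralizer ({t} : Set G))} (H : Hyp t Q N M) :
    ∃ f : Cfsg.Spor.J4 ≃* G, ∃ g : G, f Cfsg.Agent.J4.Invol.s = g * t * g⁻¹ := by
  obtain ⟨C, -, hz, -⟩ := Cfsg.Agent.H856.Bridge.exists_compl_of_hyp H
  obtain ⟨T, hT⟩ := TauMain.exists_tau C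
  obtain ⟨f, hf, hs⟩ := Final.exists_bijective Cfsg.Agent.S1703.result T.toCompl
    (FinalTau.Tau.tauFam T (Rel2.relator2 T))
    (fun p q hpq g hg => DuadCent.duad_cent T.toFrame hpq hg)
  refine ⟨MulEquiv.ofBijective f hf, T.φ gB, ?_⟩
  have h4 : Even (tet 0).card := by decide +kernel
  have h1 := T.π_smul ⟨T.φ gB, T.φ_mem gB⟩ (tet 0) h4
  rw [T.π_φ, gB_tet, T.ε_tet] at h1
  have h2 : T.z = t := by rw [← hz, ← hT]
  rw [h2] at h1
  show f Cfsg.Agent.J4.Invol.s = _
  rw [hs, ← h1]

theorem card_cent_s [Finite G] [IsSimpleGroup G] {t : G}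
    {Q N M : Subgroup (Subgroup.centralizer ({t} : Set G))} (H : Hyp t Q N M) :
    Nat.card (Subgroup.centralizer ({Cfsg.Agent.J4.Invol.s} : Set Cfsg.Spor.J4)) =
      21799895040 := by
  obtain ⟨f, g, h⟩ := exists_iso_s H
  rw [← card_cent H]
  let e : Cfsg.Spor.J4 ≃* G := f.trans (MulAut.conj g⁻¹)
  have he : e Cfsg.Agent.J4.Invol.s = t := by
    show g⁻¹ * f Cfsg.Agent.J4.Invol.s * (g⁻¹)⁻¹ = t
    rw [h]; group
  refine Nat.card_congr (Equiv.subtypeEquiv e.toEquiv ?_)
  intro x
  rw [Subgroup.mem_centralizer_singleton_iff, Subgroup.mem_centralizer_singleton_iff, ← he]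
  constructor
  · intro hx
    show e x * e _ = e _ * e x
    rw [← map_mul, hx, map_mul]
  · intro hx
    apply e.injective
    rw [map_mul, map_mul]
    exact hx

end Cfsg.Agent.H858.CentS
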